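import Mathlib.GroupTheory.GroupAction.Quotient
import Cfsg.Agent.OddOrder.BG16.Final
import Cfsg.Agent.OddOrder.BG16.Exclusive
import Cfsg.Agent.OddOrder.BG14.PairRows
import Cfsg.Agent.OddOrder.BG14.OwnerCount
import Cfsg.Agent.OddOrder.BG14.PairInstance

/-!
# The covering of `G` seen from a maximal subgroup of Type III, IV or V (Peterfalvi 10.8)
-/

set_option autoImplicit false

namespace Cfsg.Agent.OddOrder.PF10

open Subgroup
open Cfsg.Agent Cfsg.Agent.OddOrder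

universe u

variable {G : Type u} [Group G] [Finite G]

/-- A group acting without fixed points on `U` has order dividing `|U| - 1`. -/
theorem card_dvd_card_sub_one {A U : Subgroup G} (hn : A ≤ normalizer (U : Set G))
    (hfpf : ∀ a ∈ A, a ≠ 1 → U ⊓ centralizer ({a} : Set G) = ⊥) :
    Nat.card A ∣ Nat.card U - 1 := by
  classical
  letI : MulAction A {u : G // u ∈ U ∧ u ≠ 1} :=
    { smul := fun a u => ⟨(a : G) * u * (a : G)⁻¹,
        (mem_normalizer_iff.1 (hn a.2) u).1 u.2.1, fun e => u.2.2 (conj_eq_one_iff.1 e)⟩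
      one_smul := fun u => Subtype.ext (show ((1 : A) : G) * u * ((1 : A) : G)⁻¹ = u by simp)
      mul_smul := fun a b u => Subtype.ext (show ((a * b : A) : G) * u * ((a * b : A) : G)⁻¹ =
        (a : G) * ((b : G) * u * (b : G)⁻¹) * (a : G)⁻¹ by push_cast; group) }
  have hfree : ∀ u : {u : G // u ∈ U ∧ u ≠ 1}, MulAction.stabilizer A u = ⊥ := by
    intro u
    refine (eq_bot_iff_forall _).2 fun a ha => ?_
    by_contra ha1
    have e : (a : G) * u * (a : G)⁻¹ = u := congrArg Subtype.val (MulAction.mem_stabilizer_iff.1 ha)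
    have h : (u : G) ∈ U ⊓ centralizer ({(a : G)} : Set G) :=
      ⟨u.2.1, mem_centralizer_singleton_iff.2 (mul_inv_eq_iff_eq_mul.1 e).symm⟩
    rw [hfpf _ a.2 fun e' => ha1 (Subtype.ext e'), mem_bot] at h
    exact u.2.2 h
  have hcard := Nat.card_congr (MulAction.selfEquivOrbitsQuotientProd hfree)
  rw [Nat.card_prod] at hcard
  have h1 : Nat.card {u : G // u ∈ U ∧ u ≠ 1} = Nat.card U - 1 := by
    show Nat.card ↥((U : Set G) \ {1}) = _
    rw [Nat.card_coe_set_eq, Set.ncard_sdiff_singleton_of_mem (one_mem U)]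
    rfl
  exact h1 ▸ Dvd.intro_left _ hcard.symm

/-- The set `tilde` of `M_σ` only depends on the class of `M`. -/
theorem tilde_map (hG : Cfsg.IsMinSimpleOddOrder G) {M : Subgroup G} (hM : IsCoatom M) (g : G) :
    Cfsg.tildeOf (M.map (MulAut.conj g).toMonoidHom)
        ((Cfsg.sigmaCore (M.map (MulAut.conj g).toMonoidHom) : Set G) \ {1}) =
      Cfsg.tildeOf M ((Cfsg.sigmaCore M : Set G) \ {1}) := by
  have F := BG14.tildeFacts hG
  ext x
  rw [BG14.mem_tilde_iff F (OddOrder.isCoatom_map _ hM), BG14.mem_tilde_iff F hM]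
  simp only [Coprime.map_conj_map_conj]
  constructor
  · rintro ⟨y, h⟩
    exact ⟨y * g, h⟩
  · rintro ⟨y, h⟩
    refine ⟨y * g⁻¹, ?_⟩
    rwa [inv_mul_cancel_right]

variable {M U W₁ W₂ : Subgroup G}

section

variable (hG : Cfsg.IsMinSimpleOddOrder G) (F : BG16.SectionFacts G) (hM : IsCoatom M)
  (hP : Cfsg.IsTypePWith M W₁ U W₂) (hII : ¬ Cfsg.IsOfTypeII M)
include hG F hM hP hII

/-- `M` is not of Type II: `M' = M_σ` and `(W₁, 1)` is a factorisation. -/
theorem nonII_facts :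
    ⁅M, M⁆ = Cfsg.sigmaCore M ∧ Cfsg.IsSigmaDecomposition M W₁ ⊥ ∧
      Cfsg.sigmaCore M ⊓ centralizer (W₁ : Set G) = W₂ ∧ (Cfsg.kappa M).Nonempty := by
  obtain ⟨K, V, hd⟩ := BG16.decomposition_exists F hM
  obtain ⟨hI, hII', -, -⟩ := BG16.classification hG F hM hd
  have hK : K ≠ ⊥ := fun e =>
    BG16.typeI_not_typeP (hI.2 ⟨e, BG16.U_ne_bot_of_K_eq_bot hd F hM e⟩) ⟨W₁, U, W₂, hP⟩
  have hV : V = ⊥ := by_contra fun h => hII (hII'.2 ⟨hK, h⟩)
  have hder : ⁅M, M⁆ = Cfsg.sigmaCore M := by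
    rw [BG16.derived_eq F hM hd hK, hV, bot_sup_eq]
  have hcard : Nat.card W₁ = Nat.card K := by
    have e1 := TypeP.card_eq hP
    rw [hder, BG16.card_M hd, hV, card_bot, mul_one, mul_comm (Nat.card K)] at e1
    exact (Nat.eq_of_mul_eq_mul_left Nat.card_pos e1).symm
  have hW : W₁ ≤ M := TypeP.W₁_le hP
  have hrel : W₁.relIndex M = K.relIndex M := by
    have e1 := relIndex_mul_relIndex ⊥ W₁ M bot_le hW
    have e2 := relIndex_mul_relIndex ⊥ K M bot_le hd.hall.1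
    rw [relIndex_bot_left, relIndex_bot_left] at e1 e2
    rw [hcard, ← e2] at e1
    exact Nat.eq_of_mul_eq_mul_left Nat.card_pos e1
  have hHall : Cfsg.IsPiHallOf (Cfsg.kappa M) W₁ M :=
    ⟨hW, fun p hp h => hd.hall.2.1 p hp (hcard ▸ h), fun p hp h => hrel ▸ hd.hall.2.2 p hp h⟩
  refine ⟨hder, ⟨hP.W₁_cyclic, hHall, ⟨bot_le, sup_le hW (OddOrder.sigmaCore_le M), bot_inf_eq _,
    fun m hm => ⟨1, one_mem _, m, ?_, (one_mul m).symm⟩⟩, fun g _ => by
      rw [mem_normalizer_iff]; intro h; simp [mem_bot, conj_eq_one_iff]⟩, ?_, ?_⟩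
  · obtain ⟨a, ha, b, hb, rfl⟩ := hP.W₁_compl.2.2.2 m hm
    exact mul_mem (mem_sup_right (hder ▸ ha)) (mem_sup_left hb)
  · rw [← hder]
    exact TypeP.derived_inf_centralizer_W₁ hP
  · exact (BG16.K_ne_bot_iff hd).1 hK

/-- The part of `G` outside the Type I pieces is small: the covering, for any set `Q` of
representatives `R i` of the classes of maximal subgroups with `κ = ∅`. -/
theorem mass_bound
    (hcov : ∀ (M K U : Subgroup G), IsCoatom M → Cfsg.IsSigmaDecomposition M K U → K ≠ ⊥ →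
      ∀ g : G, g ≠ 1 → (∃ N : Subgroup G, IsCoatom N ∧
        g ∈ Cfsg.tildeOf N ((Cfsg.sigmaCore N : Set G) \ {1})) ∨
          ∃ y : G, ∃ z ∈ ((↑(K ⊔ (Cfsg.sigmaCore M ⊓ centralizer (K : Set G))) : Set G) \
            ((K : Set G) ∪ ↑(Cfsg.sigmaCore M ⊓ centralizer (K : Set G)))), g = y * z * y⁻¹)
    {ι : Type u} [Fintype ι] (R : ι → Subgroup G) (e : ι → ℕ)
    (hR : ∀ i, IsCoatom (R i)) (hcard : ∀ i, Nat.card (R i) = Nat.card (Cfsg.sigmaCore (R i)) * e i)
    (hrep : ∀ N : Subgroup G, IsCoatom N → Cfsg.kappa N = ∅ →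
      ∃ i, ∃ g : G, N = (R i).map (MulAut.conj g).toMonoidHom) :
    1 / (Nat.card W₂ : ℝ) * (1 - 1 / (Nat.card W₁ : ℝ) - 1 / (2 * (Nat.card W₂ : ℝ) + 1)) ≤
      ∑ i, 1 / (e i : ℝ) := by
  classical
  haveI := Fintype.ofFinite G
  obtain ⟨hder, hd, hst, -⟩ := nonII_facts hG F hM hP hII
  have I := BG14.inputs hG
  have hW0 : W₁ ≠ ⊥ := hP.W₁_ne
  obtain ⟨S, ⟨hS, hSst, hShall⟩, -⟩ := BG14.partner_unique I hM hd hW0
  obtain ⟨hU, hcls⟩ := BG14.two_classes I hM hd hW0 hS hSst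
  obtain ⟨P, -⟩ := BG14.pair_of_star I hM hd hW0 hS hSst
  replace hU := hU.resolve_left fun h => h rfl
  have hkst : BG14.kStar M W₁ = W₂ := hst
  rw [hkst] at hShall hSst hU
  haveI : IsCyclic W₂ := (F.s1351 S hS).2 _ hShall
  obtain ⟨V, hdS⟩ := (F.s1352 S hS W₂ inferInstance hShall).1
  set p := Nat.card W₂
  set q := Nat.card W₁
  set u := Nat.card V
  have hoddG : Odd (Nat.card G) := hG.1
  have hpo : Odd p := hoddG.of_dvd_nat W₂.card_subgroup_dvd_card
  have huo : Odd u := hoddG.of_dvd_nat V.card_subgroup_dvd_card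
  have hu1 : u ≠ 1 := fun h => hU V hdS (card_eq_one.1 h)
  have hdvd : p ∣ u - 1 := card_dvd_card_sub_one hdS.normal fun a ha ha1 => F.s1353 S hS W₂ V hdS a ha ha1
  have hu : 2 * p + 1 ≤ u := by
    obtain ⟨k, hk⟩ := hdvd
    obtain ⟨a, ha⟩ := hpo
    obtain ⟨b, hb⟩ := huo
    match k, hk with
    | 0, hk => omega
    | 1, hk => omega
    | k + 2, hk =>
      have : p * 2 ≤ p * (k + 2) := Nat.mul_le_mul le_rfl (by omega)
      omega
  -- the four kinds of parts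
  let T : Subgroup G → Set G := fun N => Cfsg.tildeOf N ((Cfsg.sigmaCore N : Set G) \ {1})
  let Z : Set G := BG14.zHat M W₁
  let ZG : Set G := {a : G | ∃ g : G, ∃ s ∈ Z, a = g * s * g⁻¹}
  have hsub : ((Finset.univ : Finset G).erase 1 : Set G) ⊆ (⋃ i, T (R i)) ∪ T M ∪ T S ∪ ZG := by
    intro g hg
    have hg1 : g ≠ 1 := (Finset.mem_erase.1 hg).1
    rcases hcov M W₁ ⊥ hM hd hW0 g hg1 with ⟨N, hN, hgN⟩ | ⟨y, z, hz, rfl⟩
    · rcases (Cfsg.kappa N).eq_empty_or_nonempty with hκ | hκ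
      · obtain ⟨i, x, rfl⟩ := hrep N hN hκ
        rw [tilde_map hG (hR i)] at hgN
        exact Or.inl (Or.inl (Or.inl (Set.mem_iUnion.2 ⟨i, hgN⟩)))
      · obtain ⟨x, rfl | rfl⟩ := hcls N hN hκ
        · rw [tilde_map hG hM] at hgN
          exact Or.inl (Or.inl (Or.inr hgN))
        · rw [tilde_map hG hS] at hgN
          exact Or.inl (Or.inr hgN)
    · exact Or.inr ⟨y, z, hz, rfl⟩
  have hle : Nat.card G - 1 ≤ (∑ i, (T (R i)).ncard) + (T M).ncard + (T S).ncard + ZG.ncard := by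
    have h := Set.ncard_le_ncard hsub (Set.toFinite _)
    rw [Set.ncard_coe_finset, Finset.card_erase_of_mem (Finset.mem_univ _), Finset.card_univ,
      ← Nat.card_eq_fintype_card] at h
    refine h.trans ?_
    have h1 : (⋃ i, T (R i)).ncard ≤ ∑ i, (T (R i)).ncard := by
      have h' := Finset.set_ncard_biUnion_le (Finset.univ : Finset ι) fun i => T (R i)
      simpa using h'
    have h2 := Set.ncard_union_le ((⋃ i, T (R i)) ∪ T M ∪ T S) ZG
    have h3 := Set.ncard_union_le ((⋃ i, T (R i)) ∪ T M) (T S)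
    have h4 := Set.ncard_union_le (⋃ i, T (R i)) (T M)
    omega
  have hT : ∀ N, IsCoatom N → (T N).ncard = (Nat.card (Cfsg.sigmaCore N) - 1) * N.index :=
    fun N hN => BG14.card_tilde hG (BG14.tildeFacts hG) hN
  have hZG : ZG.ncard = Z.ncard * (W₁ ⊔ W₂).index := by
    rw [← hkst]
    exact BG14.ncard_conj_ti Z _ (fun n hn s hs => P.conj_mem_zHat I hn hs)
      fun g s hs h => P.mem_of_conj_mem_zHat I hs h.1
  have hcap : W₁ ⊓ W₂ = ⊥ := hP.selfNormalizing.2.2.1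
  have hWc : Nat.card ↥(W₁ ⊔ W₂) = p * q := by
    rw [← hkst, P.data.card_sup, hkst]
  have hZc : Z.ncard + (p + q) = p * q + 1 := by
    have h1 : ((W₁ : Set G) ∪ (W₂ : Set G)).ncard + 1 = q + p := by
      have e := Set.ncard_union_add_ncard_inter (W₁ : Set G) (W₂ : Set G)
      rwa [← coe_inf, hcap, coe_bot, Set.ncard_singleton] at e
    have h2 : Z.ncard + ((W₁ : Set G) ∪ (W₂ : Set G)).ncard = p * q := by
      have hs : ((W₁ : Set G) ∪ (W₂ : Set G)) ⊆ (↑(W₁ ⊔ W₂) : Set G) :=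
        Set.union_subset (SetLike.coe_subset_coe.2 le_sup_left) (SetLike.coe_subset_coe.2 le_sup_right)
      have h := Set.ncard_sdiff_add_ncard_of_subset hs
      rw [← Nat.card_coe_set_eq (↑(W₁ ⊔ W₂) : Set G)] at h
      simp only [SetLike.coe_sort_coe, hWc] at h
      simp only [Z, BG14.zHat, hkst]
      exact h
    omega
  -- the orders
  have hcM : Nat.card (Cfsg.sigmaCore M) * q * M.index = Nat.card G := by
    rw [← hder, ← TypeP.card_eq hP, M.card_mul_index]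
  have hcS : Nat.card (Cfsg.sigmaCore S) * (p * u) * S.index = Nat.card G := by
    rw [← S.card_mul_index, BG16.card_M hdS]; ring
  have hcW : p * q * (W₁ ⊔ W₂).index = Nat.card G := by
    rw [← hWc, card_mul_index]
  have hcR : ∀ i, Nat.card (Cfsg.sigmaCore (R i)) * e i * (R i).index = Nat.card G := fun i => by
    rw [← hcard i, (R i).card_mul_index]
  have hidx : ∀ N : Subgroup G, 1 ≤ N.index := fun N => Nat.one_le_iff_ne_zero.2 N.index_ne_zero_of_finite
  have hσ : ∀ N : Subgroup G, 1 ≤ Nat.card (Cfsg.sigmaCore N) := fun N => Nat.card_pos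
  simp only [hT M hM, hT S hS, fun i => hT (R i) (hR i), hZG] at hle
  -- to the reals
  have hpR : (0 : ℝ) < p := Nat.cast_pos.2 Nat.card_pos
  have hqR : (0 : ℝ) < q := Nat.cast_pos.2 Nat.card_pos
  have hGR : (0 : ℝ) < Nat.card G := Nat.cast_pos.2 Nat.card_pos
  have huR : (0 : ℝ) < u := Nat.cast_pos.2 Nat.card_pos
  have hG1 : 1 ≤ Nat.card G := Nat.card_pos
  have hleR : ((Nat.card G : ℝ) - 1) ≤ (∑ i, ((Nat.card (Cfsg.sigmaCore (R i)) : ℝ) - 1) * (R i).index) +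
      ((Nat.card (Cfsg.sigmaCore M) : ℝ) - 1) * M.index +
      ((Nat.card (Cfsg.sigmaCore S) : ℝ) - 1) * S.index + (Z.ncard : ℝ) * (W₁ ⊔ W₂).index := by
    have h := (Nat.cast_le (α := ℝ)).2 hle
    push_cast [Nat.cast_sub hG1, Nat.cast_sub (hσ M), Nat.cast_sub (hσ S),
      fun i => Nat.cast_sub (R := ℝ) (hσ (R i))] at h
    exact h
  have hRi : ∀ i, ((Nat.card (Cfsg.sigmaCore (R i)) : ℝ) - 1) * (R i).index ≤
      (Nat.card G : ℝ) * (1 / (e i : ℝ)) := by
    intro i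
    have he : e i ≠ 0 := fun h => Nat.card_pos.ne' (by
      have := hcR i; rw [h, mul_zero, zero_mul] at this; exact this.symm)
    rw [← hcR i, Nat.cast_mul, Nat.cast_mul, mul_one_div, mul_right_comm, mul_div_assoc,
      div_self (Nat.cast_ne_zero.2 he), mul_one]
    exact mul_le_mul_of_nonneg_right (by linarith) (Nat.cast_nonneg _)
  have hMi : ((Nat.card (Cfsg.sigmaCore M) : ℝ) - 1) * M.index ≤ (Nat.card G : ℝ) * (1 / (q : ℝ)) - 1 := by
    rw [← hcM]
    push_cast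
    field_simp
    have : (1 : ℝ) ≤ M.index := Nat.one_le_cast.2 (hidx M)
    nlinarith
  have hSi : ((Nat.card (Cfsg.sigmaCore S) : ℝ) - 1) * S.index ≤ (Nat.card G : ℝ) * (1 / ((p : ℝ) * u)) := by
    rw [← hcS]
    push_cast
    field_simp
    nlinarith [(Nat.cast_nonneg S.index : (0 : ℝ) ≤ S.index), mul_pos hpR huR]
  have hZi : (Z.ncard : ℝ) * (W₁ ⊔ W₂).index =
      (Nat.card G : ℝ) * (1 + 1 / ((p : ℝ) * q) - 1 / (p : ℝ) - 1 / (q : ℝ)) := by
    have h : (Z.ncard : ℝ) + ((p : ℝ) + q) = (p : ℝ) * q + 1 := by exact_mod_cast hZc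
    rw [← hcW, show (Z.ncard : ℝ) = (p : ℝ) * q + 1 - ((p : ℝ) + q) by linarith]
    push_cast
    field_simp
    ring
  have hsum := Finset.sum_le_sum fun i (_ : i ∈ (Finset.univ : Finset ι)) => hRi i
  rw [← Finset.mul_sum] at hsum
  have hnn : 0 ≤ (Nat.card G : ℝ) *
      ((∑ i, 1 / (e i : ℝ)) + 1 / ((p : ℝ) * u) + 1 / ((p : ℝ) * q) - 1 / (p : ℝ)) := by
    linarith
  have hmain := nonneg_of_mul_nonneg_right hnn hGR
  have hu' : 1 / ((p : ℝ) * u) ≤ 1 / (p : ℝ) * (1 / (2 * (p : ℝ) + 1)) := by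
    rw [← one_div_mul_one_div]
    refine mul_le_mul_of_nonneg_left ?_ (by positivity)
    exact one_div_le_one_div_of_le (by positivity) (by exact_mod_cast hu)
  have hpq : 1 / ((p : ℝ) * q) = 1 / (p : ℝ) * (1 / (q : ℝ)) := (one_div_mul_one_div _ _).symm
  linarith

end

end Cfsg.Agent.OddOrder.PF10
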