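import Cfsg.Agent.OddOrder.PF12.KernelChars
import Cfsg.Agent.OddOrder.PF7.InvDade
import Cfsg.Agent.OddOrder.PF8.Dade
import Cfsg.Agent.CharInduce.Twist
import Cfsg.Agent.H41.Nilpotent
import Cfsg.Agent.S1500
import Cfsg.Agent.S1501

/-!
# The virtual character of one maximal subgroup of Type I (Peterfalvi 10.8)

For `L` of Type I with kernel `H = L_F` of index `e` and a non-principal linear character `l` of `H`, the
function `g = τ (Ind_H^L 1 - Ind_H^L l)` has norm `e + t`, where `t` is the index of `H` in the stabiliser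
of `l`, lives on the set `tilde` of `H#`, and `g - conj g` is a combination of norm-2 virtual characters on
the set `tilde` of `A(L)`.
-/

set_option autoImplicit false

namespace Cfsg.Agent.OddOrder.PF10

open Subgroup
open scoped ComplexConjugate
open Cfsg.Agent Cfsg.Agent.CharBasic Cfsg.Agent.OddOrder

universe u

variable {G : Type u} [Group G]

/-- The Dade support is the set `tilde` of the set. -/
theorem dadeSupp_eq_tildeOf (M : Subgroup G) (A : Set G) :
    H43.dadeSupp A (Cfsg.supportR M) = Cfsg.tildeOf M A := by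
  ext g
  constructor
  · rintro ⟨a, ha, u, hu, x, hx⟩
    exact ⟨a, ha, u, hu, x⁻¹, by rw [← hx]; group⟩
  · rintro ⟨a, ha, u, hu, y, rfl⟩
    exact ⟨a, ha, u, hu, y⁻¹, by group⟩

/-- An irreducible character that is not constant on `H ⊴ L` vanishes at the elements commuting with no
non-identity element of `H`. -/
theorem apply_eq_zero_of_free {L : Type u} [Group L] [Finite L] (H : Subgroup L) [H.Normal] {x : L}
    (hx : ∀ h ∈ H, x * h = h * x → h = 1) {χ : L → ℂ} (hχ : Cfsg.IsIrrCharacter L χ) {n : L}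
    (hn : n ∈ H) (hne : χ n ≠ χ 1) : χ x = 0 := by
  classical
  let π := QuotientGroup.mk' H
  let f : Cfsg.IrrCharacter (L ⧸ H) → Cfsg.IrrCharacter L := fun θ =>
    ⟨fun g => θ.1 (π g), CharInduce.IsIrr.comp θ.2 π (QuotientGroup.mk'_surjective H)⟩
  have hf : Function.Injective f := fun a b h => Subtype.ext (funext fun q => by
    obtain ⟨g, rfl⟩ := QuotientGroup.mk'_surjective H q
    exact congrFun (congrArg Subtype.val h) g)
  have h1 := second_orthogonality_self x
  have h2 := second_orthogonality_self (π x)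
  simp only [Complex.mul_conj] at h1 h2
  rw [← Complex.ofReal_sum, ← Complex.ofReal_natCast, Complex.ofReal_inj] at h1 h2
  have hle : Nat.card (centralizer ({x} : Set L)) ≤ Nat.card (centralizer ({π x} : Set (L ⧸ H))) := by
    refine Nat.card_le_card_of_injective (fun c => ⟨π c, mem_centralizer_singleton_iff.2 (by
      rw [← map_mul, ← map_mul, mem_centralizer_singleton_iff.1 c.2])⟩) fun c d hcd => ?_
    have e : π (c : L) = π (d : L) := congrArg Subtype.val hcd
    have hc : (c : L)⁻¹ * d ∈ centralizer ({x} : Set L) := mul_mem (inv_mem c.2) d.2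
    exact Subtype.ext (inv_mul_eq_one.1
      (hx _ (QuotientGroup.eq.1 e) (mem_centralizer_singleton_iff.1 hc).symm))
  have hsplit := Finset.sum_sdiff (f := fun ψ : Cfsg.IrrCharacter L => Complex.normSq ((ψ : L → ℂ) x))
    (Finset.subset_univ (Finset.univ.image f))
  rw [Finset.sum_image fun a _ b _ h => hf h, h1] at hsplit
  have h3 : ∑ θ, Complex.normSq ((f θ : L → ℂ) x) =
      (Nat.card (centralizer ({π x} : Set (L ⧸ H))) : ℝ) := h2
  have hle' : (Nat.card (centralizer ({x} : Set L)) : ℝ) ≤
      Nat.card (centralizer ({π x} : Set (L ⧸ H))) := Nat.cast_le.2 hle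
  have hmem : (⟨χ, hχ⟩ : Cfsg.IrrCharacter L) ∈ Finset.univ \ Finset.univ.image f := by
    simp only [Finset.mem_sdiff, Finset.mem_univ, true_and, Finset.mem_image, not_exists]
    intro θ e
    have e' : ∀ g, θ.1 (π g) = χ g := fun g => congrFun (congrArg Subtype.val e) g
    have hπn : π n = 1 := (QuotientGroup.eq_one_iff n).2 hn
    exact hne (by rw [← e' n, ← e' 1, hπn, map_one])
  have h4 := Finset.single_le_sum
    (fun (ψ : Cfsg.IrrCharacter L) _ => Complex.normSq_nonneg ((ψ : L → ℂ) x)) hmem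
  have h5 := Complex.normSq_nonneg (χ x)
  exact Complex.normSq_eq_zero.1 (le_antisymm (by linarith) h5)

variable [Fintype G]

/-- The function of one block. -/
theorem exists_piece {L : Subgroup G} (S : PF8.Support L)
    (hI : IsTypeI L) :
    ∃ (g : G → ℂ) (ne : ℕ),
      (∀ x ∉ Cfsg.tildeOf L ((Cfsg.fittingHallOf L : Set G) \ {1}), g x = 0) ∧
      Cfsg.IsGeneralizedCharacter G g ∧ Cfsg.classInner g (fun _ => 1) = 1 ∧
      Cfsg.classInner g g = (ne : ℂ) + 1 ∧ 3 * (ne + 1) ≤ 4 * (Cfsg.fittingHall L).index ∧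
      ∃ (κ : Type u) (_ : Fintype κ) (c : κ → ℂ) (d : κ → G → ℂ),
        g - Cfsg.conjFun g = ∑ k, c k • d k ∧
        ∀ k, Cfsg.IsGeneralizedCharacter G (d k) ∧ Cfsg.classInner (d k) (d k) = 2 ∧
          ∀ x ∉ Cfsg.tildeOf L (setA L), d k x = 0 := by
  classical
  letI : Fintype L := Fintype.ofFinite L
  obtain ⟨⟨-, hoddL, hK1, -, U, hU1, -, -, U₀, -, hexp, hfpf⟩, -⟩ := id hI
  set K := Cfsg.fittingHall L with hK
  haveI : K.Normal := Cfsg.fittingHall_normal L
  letI : Fintype K := Fintype.ofFinite K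
  set A : Set G := setA L with hA
  have hD : Cfsg.DadeHypothesis A L (Cfsg.supportR L) :=
    PF8.dadeHypothesis S (PF8.typeA_subset_typeA0 L) fun m hm a ha => PF8.conj_mem_typeA hm ha
  have hAmem : ∀ a : G, a ∈ A ↔
      a ∈ L ∧ a ≠ 1 ∧ ∃ x ∈ Cfsg.fittingHallOf L, x ≠ 1 ∧ a * x = x * a := fun a => by
    rw [hA, setA, if_pos hI]
    rfl
  have hmem : ∀ x : L, (x : G) ∈ Cfsg.fittingHallOf L ↔ x ∈ K := fun x =>
    ⟨fun h => by obtain ⟨y, hy, e⟩ := h; exact Subtype.ext e ▸ hy, fun h => ⟨x, h, rfl⟩⟩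
  -- a non-principal linear character of the kernel
  obtain ⟨l, hl⟩ : ∃ l : K →* ℂˣ, l ≠ 1 := by
    by_contra hc
    push Not at hc
    have hcard := PF12.card_linear (L := L) K
    have : Subsingleton (K →* ℂˣ) := ⟨fun a b => (hc a).trans (hc b).symm⟩
    rw [Nat.card_unique, eq_comm, index_eq_one] at hcard
    haveI : Group.IsNilpotent K := (H41.fittingHall_spec L).2.1
    haveI : Nontrivial K := K.nontrivial_iff_ne_bot.2 hK1
    exact (Group.IsSolvable.commutator_lt_top_of_nontrivial (G := K)).ne hcard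
  set Φ : L → ℂ := Cfsg.indFun K (PF12.linFun K l) with hΦ
  have hirr : Cfsg.IsIrrCharacter K (PF12.linFun K l) := CharInduce.isIrrCharacter_hom l
  have hne1 : PF12.linFun K l ≠ fun _ => (1 : ℂ) := fun e =>
    hl (PF12.linFun_injective K (e.trans (PF12.linFun_one K).symm))
  have hΦgen : Cfsg.IsGeneralizedCharacter L Φ :=
    H43.gen_of_char (CharInduce.IsChar.ind K (CharInduce.isCharacter_hom l))
  have hΦ0 : ∀ x, x ∉ K → Φ x = 0 := fun x hx => CharInduce.indFun_eq_zero_of_normal K _ hx
  -- the stabiliser of `l`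
  have hmul : ∀ x y : L, PF12.conjHom K l (x * y) =
      (PF12.conjHom K l x).comp (MulAut.conjNormal y).toMonoidHom := fun x y => by
    refine MonoidHom.ext fun h => ?_
    simp only [PF12.conjHom, MonoidHom.comp_apply, map_mul]
    rfl
  let T : Subgroup L :=
    { carrier := {x | PF12.conjHom K l x = l}
      one_mem' := PF12.conjHom_of_mem K l K.one_mem
      mul_mem' := fun {x y} hx hy => by
        show PF12.conjHom K l (x * y) = l
        rw [hmul, show PF12.conjHom K l x = l from hx]
        exact hy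
      inv_mem' := fun {x} hx => by
        have h := hmul x x⁻¹
        rw [mul_inv_cancel, PF12.conjHom_of_mem K l K.one_mem, show PF12.conjHom K l x = l from hx] at h
        exact h.symm }
  have hKT : K ≤ T := fun x hx => PF12.conjHom_of_mem K l hx
  set t := K.relIndex T with ht
  set e := K.index with he
  have hte : t * T.index = e := relIndex_mul_index hKT
  have hTcard : Nat.card K * t = Nat.card T := by
    have h := relIndex_mul_relIndex ⊥ K T bot_le hKT
    rwa [relIndex_bot_left, relIndex_bot_left] at h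
  have hself : Cfsg.classInner Φ Φ = (t : ℂ) := by
    rw [hΦ, PF12.count, show Nat.card {x : L // PF12.conjHom K l x = l} = Nat.card T from rfl,
      ← hTcard, Nat.cast_mul, inv_mul_cancel_left₀ (CharInduce.card_ne_zero_complex _)]
  have hone0 : Cfsg.classInner Φ (PF12.indOne K) = 0 := by
    rw [hΦ, PF12.indOne, ← PF12.linFun_one, PF12.count]
    have : IsEmpty {x : L // PF12.conjHom K 1 x = l} :=
      ⟨fun x => hl (x.2.symm.trans (MonoidHom.ext fun _ => rfl))⟩
    simp
  have hT1 : T.index ≠ 1 := by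
    intro h1
    obtain ⟨u, hu, hu1⟩ : ∃ u ∈ U₀, u ≠ 1 := by
      refine (U₀.bot_or_exists_ne_one).resolve_left fun hb => hU1 ?_
      rw [hb, Monoid.exp_eq_one_iff.2 inferInstance, eq_comm, Monoid.exp_eq_one_iff] at hexp
      exact eq_bot_of_subsingleton U
    obtain ⟨h, hh, hh1, hc⟩ := (Cfsg.Agent.S1536.result K (H41.fittingHall_spec L).2.2 u).1
      ⟨_, hirr, hne1, by
        have e1 := PF12.conjFun_linFun K l u
        rw [show PF12.conjHom K l u = l from (index_eq_one.1 h1 ▸ mem_top u : u ∈ T)] at e1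
        exact e1⟩
    exact hh1 (hfpf u hu hu1 h hh hc)
  have hbound : 3 * t ≤ e := by
    have : Odd e := hoddL.of_dvd_nat K.index_dvd_card
    rw [← hte, Nat.odd_mul] at this
    have h3 : 3 ≤ T.index := by obtain ⟨r, hr⟩ := this.2; omega
    calc 3 * t = t * 3 := mul_comm _ _
      _ ≤ t * T.index := Nat.mul_le_mul_left _ h3
      _ = e := hte
  have ht1 : 1 ≤ t := Nat.one_le_iff_ne_zero.2 fun h0 => K.index_ne_zero_of_finite
    (by rw [← he, ← hte, h0, zero_mul])
  -- the function on `L`
  set β : L → ℂ := PF12.indOne K - Φ with hβ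
  have hβA : ∀ x : L, (x : G) ∉ A → β x = 0 := by
    intro x hx
    by_cases hxK : x ∈ K
    · have : x = 1 := by
        by_contra hne
        exact hx ((hAmem _).2 ⟨x.2, fun h => hne (Subtype.ext h), x, (hmem x).2 hxK,
          fun h => hne (Subtype.ext h), rfl⟩)
      subst this
      simp [hβ, hΦ, PF12.indOne_of_mem K K.one_mem, CharInduce.indFun_one, PF12.linFun]
    · simp [hβ, PF12.indOne_of_not_mem K hxK, hΦ0 x hxK]
  have hβgen : Cfsg.IsGeneralizedCharacter L β :=
    H43.gen_sub (H43.gen_of_char (CharInduce.IsChar.ind K (IsIrr.isCharacter isIrrCharacter_one)))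
      hΦgen
  have hβc : Cfsg.IsClassFunction L β := H43.gen_isClassFunction hβgen
  set τ := Cfsg.dadeIsometry A L (Cfsg.supportR L) with hτ
  have hconjτ : ∀ α : L → ℂ, Cfsg.conjFun (τ α) = τ (Cfsg.conjFun α) := by
    intro α
    funext y
    simp only [hτ, Cfsg.conjFun, Cfsg.dadeIsometry]
    split_ifs <;> simp
  have hsubτ : ∀ α γ : L → ℂ, τ α - τ γ = τ (α - γ) := by
    intro α γ
    funext y
    simp only [hτ, Pi.sub_apply, Cfsg.dadeIsometry]
    split_ifs <;> simp
  refine ⟨τ β, e + t - 1, fun y hy => ?_, Cfsg.Agent.S1501.result A L _ hD β hβgen hβA, ?_, ?_,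
    by omega, ?_⟩
  · by_cases h : ∃ a : ↥L, (a : G) ∈ A ∧ ∃ x : G, ∃ u ∈ Cfsg.supportR L (a : G),
        x * y * x⁻¹ = (a : G) * u
    · obtain ⟨a, ha, x, u, hu, hx⟩ := h
      rw [hτ, H43.dade_apply hD hβc ha hu hx]
      by_contra hne
      have haK : a ∈ K := by
        by_contra hn
        exact hne (by simp [hβ, PF12.indOne_of_not_mem K hn, hΦ0 a hn])
      refine hy ?_
      rw [← dadeSupp_eq_tildeOf]
      exact ⟨a, ⟨(hmem a).2 haK, fun h1 => ((hAmem _).1 ha).2.1 h1⟩, u, hu, x, hx⟩
    · exact H43.dade_apply_zero h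
  · have hne : ∀ a : G, (Nat.card (Cfsg.supportR L a) : ℂ) ≠ 0 := fun a =>
      Nat.cast_ne_zero.2 Nat.card_pos.ne'
    rw [hτ, (Cfsg.Agent.S1500.result A L _ hD β hβc hβA).2 (fun _ => 1) (fun _ => 1)
      (fun _ _ => rfl) (fun a _ => ?_), hβ, classInner_sub_left]
    · rw [hΦ, CharInduce.classInner_indFun_left K _ _ (fun _ _ => rfl),
        classInner_irr_of_ne hirr isIrrCharacter_one hne1, sub_zero, PF12.indOne,
        CharInduce.classInner_indFun_left K _ _ (fun _ _ => rfl),
        classInner_irr_self isIrrCharacter_one]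
    · rw [finsum_mem_eq_finite_toFinset_sum _ (Set.toFinite _), Finset.sum_const, nsmul_eq_mul,
        mul_one, ← Nat.card_eq_card_finite_toFinset]
      exact (inv_mul_cancel₀ (hne _)).symm
  · rw [hτ, (Cfsg.Agent.S1500.result A L _ hD β hβc hβA).1 β hβc hβA, hβ, classInner_sub_left,
      classInner_sub_right, classInner_sub_right, PF12.classInner_indOne, hself, hone0,
      ← CharInduce.conj_classInner Φ (PF12.indOne K), hone0, map_zero, ← he,
      Nat.cast_sub (by omega : 1 ≤ e + t), Nat.cast_add, Nat.cast_one]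
    ring
  · refine ⟨{ξ : Cfsg.IrrCharacter L // ∃ n ∈ K, (ξ : L → ℂ) n ≠ (ξ : L → ℂ) 1}, inferInstance,
      fun ξ => Cfsg.classInner Φ (ξ.1 : L → ℂ),
      fun ξ => τ (Cfsg.conjFun (ξ.1 : L → ℂ) - (ξ.1 : L → ℂ)), ?_, fun ξ => ?_⟩
    · -- the constituents constant on `K` are absent
      have hconst : ∀ ξ : Cfsg.IrrCharacter L, (∀ n ∈ K, (ξ : L → ℂ) n = (ξ : L → ℂ) 1) →
          Cfsg.classInner Φ (ξ : L → ℂ) = 0 := fun ξ hξ => by
        rw [hΦ, CharInduce.classInner_indFun_left K _ _ (IsIrr.isClassFunction ξ.2),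
          show (fun n : K => (ξ : L → ℂ) n) = (ξ : L → ℂ) 1 • fun _ : K => (1 : ℂ) from
            funext fun n => by simp [hξ n n.2],
          classInner_smul_right, classInner_irr_of_ne hirr isIrrCharacter_one hne1, mul_zero]
      have hind : Cfsg.conjFun (PF12.indOne K) = PF12.indOne K := by
        funext x
        by_cases hx : x ∈ K
        · simp [Cfsg.conjFun, PF12.indOne_of_mem K hx]
        · simp [Cfsg.conjFun, PF12.indOne_of_not_mem K hx]
      have hd : β - Cfsg.conjFun β = ∑ ξ : Cfsg.IrrCharacter L,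
          Cfsg.classInner Φ (ξ : L → ℂ) • (Cfsg.conjFun (ξ : L → ℂ) - (ξ : L → ℂ)) := by
        have h1 : β - Cfsg.conjFun β = Cfsg.conjFun Φ - Φ := by
          funext x
          have := congrFun hind x
          simp only [hβ, Cfsg.conjFun, Pi.sub_apply, map_sub] at this ⊢
          rw [this]
          ring
        rw [h1]
        funext x
        have hexp := classFunction_expansion (H43.gen_isClassFunction hΦgen)
        simp only [Cfsg.conjFun, Pi.sub_apply, Finset.sum_apply, Pi.smul_apply, smul_eq_mul, mul_sub,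
          Finset.sum_sub_distrib]
        conv_lhs => rw [hexp]
        simp only [Finset.sum_apply, Pi.smul_apply, smul_eq_mul, map_sum, map_mul]
        congr 1
        refine Finset.sum_congr rfl fun ξ _ => ?_
        obtain ⟨m, hm⟩ := H43.gen_inner_int hΦgen (H43.gen_of_irr ξ.2)
        rw [hm, map_intCast]
      rw [hconjτ, hsubτ, hd]
      funext y
      simp only [hτ, Finset.sum_apply, Pi.smul_apply, smul_eq_mul, Cfsg.dadeIsometry]
      split_ifs
      · refine (Finset.sum_filter_of_ne (p := fun ξ : Cfsg.IrrCharacter L =>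
          ∃ n ∈ K, (ξ : L → ℂ) n ≠ (ξ : L → ℂ) 1) ?_).symm.trans
            (Finset.sum_subtype _ (fun ξ => by simp) _)
        intro ξ _ h
        by_contra hc
        push Not at hc
        exact h (by rw [hconst ξ hc, zero_mul])
      · simp
    · obtain ⟨⟨ξ, hξ⟩, n, hn, hne⟩ := ξ
      simp only at hne ⊢
      have hξbar : Cfsg.IsIrrCharacter L (Cfsg.conjFun ξ) := CharInduce.IsIrr.conj hξ
      have hdgen : Cfsg.IsGeneralizedCharacter L (Cfsg.conjFun ξ - ξ) :=
        H43.gen_sub (H43.gen_of_irr hξbar) (H43.gen_of_irr hξ)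
      have hdA : ∀ x : L, (x : G) ∉ A → (Cfsg.conjFun ξ - ξ) x = 0 := by
        intro x hx
        by_cases hx1 : x = 1
        · subst hx1
          obtain ⟨m, -, hm⟩ := IsIrr.exists_degree hξ
          simp [Cfsg.conjFun, hm]
        · have h0 : ξ x = 0 := apply_eq_zero_of_free K (fun h hh hc => by
            by_contra hh1
            exact hx ((hAmem _).2 ⟨x.2, fun h' => hx1 (Subtype.ext h'), h, (hmem h).2 hh,
              fun h' => hh1 (Subtype.ext h'), congrArg Subtype.val hc⟩)) hξ hn hne
          simp [Cfsg.conjFun, h0]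
      have hdc : Cfsg.IsClassFunction L (Cfsg.conjFun ξ - ξ) := H43.gen_isClassFunction hdgen
      refine ⟨Cfsg.Agent.S1501.result A L _ hD _ hdgen hdA, ?_, fun y hy => ?_⟩
      · have hne' : Cfsg.conjFun ξ ≠ ξ := fun h => hne (by
          rw [CharInduce.eq_one_of_real_of_odd hoddL hξ (congrFun h)])
        rw [hτ, (Cfsg.Agent.S1500.result A L _ hD _ hdc hdA).1 _ hdc hdA, classInner_sub_left,
          classInner_sub_right, classInner_sub_right, classInner_irr_self hξbar,
          classInner_irr_self hξ, classInner_irr_of_ne hξbar hξ hne',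
          classInner_irr_of_ne hξ hξbar (Ne.symm hne')]
        norm_num
      · refine PF7.dade_eq_zero_of_not_mem fun h => hy ?_
        rwa [dadeSupp_eq_tildeOf] at h

end Cfsg.Agent.OddOrder.PF10
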