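import Cfsg.Agent.OddOrder.PF10.Cover
import Cfsg.Agent.OddOrder.PF10.CoverPiece
import Cfsg.Agent.OddOrder.PF10.CoverMass

/-!
# The blocks of Type I seen from a maximal subgroup of Type III, IV or V: existence of a `Cover`

The local analysis enters through `BG16.SectionFacts` and the covering (third part of S1379). Nothing is
assumed about Peterfalvi (12.7): on `W ∖ (W₁ ∪ W₂)` the sets `tilde` of `A(L)`, for `L` of Type I, have no
element, because such an element has its centraliser in `W` and `W₁`, `W₂` have their primes in `σ(S)`,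
`σ(M)`.
-/

set_option autoImplicit false

namespace Cfsg.Agent.OddOrder.PF10

open Subgroup
open Cfsg.Agent Cfsg.Agent.OddOrder

universe u

variable {G : Type u} [Group G] [Finite G]

/-- The supporting-subgroup facts from the local analysis. -/
theorem support_of_facts (hG : Cfsg.IsMinSimpleOddOrder G) (F : BG16.SectionFacts G) {M : Subgroup G}
    (hM : IsCoatom M) : PF8.Support M := by
  obtain ⟨h1, h2, h3⟩ := BG16.tame_embedding hG F hM (setA0 M) (Or.inr rfl)
  refine ⟨h1, h2, fun x hx hxM L hL hxL => ?_⟩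
  obtain ⟨a, b, c, d, e, f, -⟩ := h3 x hx hxM L hL hxL
  exact ⟨a, b, c, d, e, f⟩

/-- The Dade hypothesis for `A₀(M)` in every maximal subgroup. -/
theorem dade_of_facts (hG : Cfsg.IsMinSimpleOddOrder G) (F : BG16.SectionFacts G) {M : Subgroup G}
    (hM : IsCoatom M) : Cfsg.DadeHypothesis (setA0 M) M (Cfsg.supportR M) :=
  PF8.dadeHypothesis (support_of_facts hG F hM) subset_rfl fun _ hm _ ha => PF8.conj_mem_typeA0 hm ha

omit [Finite G] in
variable [Fintype G] in
/-- The Type I blocks seen from a maximal subgroup `M` of type P, not of Type II. -/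
theorem cover_nonempty (hG : Cfsg.IsMinSimpleOddOrder G) (F : BG16.SectionFacts G)
    (h1379 : ∀ (M K U : Subgroup G), IsCoatom M → Cfsg.IsSigmaDecomposition M K U → K ≠ ⊥ →
      (∀ g : G, g ≠ 1 → (∃ N : Subgroup G, IsCoatom N ∧
          g ∈ Cfsg.tildeOf N ((Cfsg.sigmaCore N : Set G) \ {1})) ∨
          ∃ y : G, ∃ z ∈ ((↑(K ⊔ (Cfsg.sigmaCore M ⊓ centralizer (K : Set G))) : Set G) \
            ((K : Set G) ∪ ↑(Cfsg.sigmaCore M ⊓ centralizer (K : Set G)))), g = y * z * y⁻¹) ∧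
        ∀ N : Subgroup G, IsCoatom N → ∀ y : G,
          ∀ z ∈ ((↑(K ⊔ (Cfsg.sigmaCore M ⊓ centralizer (K : Set G))) : Set G) \
            ((K : Set G) ∪ ↑(Cfsg.sigmaCore M ⊓ centralizer (K : Set G)))),
            y * z * y⁻¹ ∉ Cfsg.tildeOf N ((Cfsg.sigmaCore N : Set G) \ {1}))
    {M U W₁ W₂ : Subgroup G} (hM : IsCoatom M) (hP : Cfsg.IsTypePWith M W₁ U W₂)
    (hII : ¬ Cfsg.IsOfTypeII M) {p q : ℕ} (hp : Nat.card W₂ = p) (hq : Nat.card W₁ = q) :
    Nonempty (Cover (H43.dadeSupp ((↑⁅M, M⁆ : Set G) \ {1}) (Cfsg.supportR M)) W₁ W₂ p q) := by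
  classical
  obtain ⟨hder, hd, hst, hκM⟩ := nonII_facts hG F hM hP hII
  -- representatives of the classes of Type I
  let conjRel : Setoid {L : Subgroup G // IsCoatom L ∧ IsTypeI L} :=
    { r := fun L N => ∃ g : G, N.1 = L.1.map (MulAut.conj g).toMonoidHom
      iseqv :=
        ⟨fun L => ⟨1, (Coprime.map_conj_one L.1).symm⟩,
          fun ⟨g, hg⟩ => ⟨g⁻¹, by
            rw [hg, Coprime.map_conj_map_conj, inv_mul_cancel, Coprime.map_conj_one]⟩,
          fun ⟨g, hg⟩ ⟨g', hg'⟩ => ⟨g' * g, by rw [hg', hg, Coprime.map_conj_map_conj]⟩⟩ }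
  haveI : Fintype (Quotient conjRel) := Fintype.ofFinite _
  let R : Quotient conjRel → Subgroup G := fun i => i.out.1
  have hR : ∀ i, IsCoatom (R i) := fun i => i.out.2.1
  have hI : ∀ i, IsTypeI (R i) := fun i => i.out.2.2
  have hσ : ∀ i, Cfsg.sigmaCore (R i) = Cfsg.fittingHallOf (R i) := fun i => by
    rw [← BG16.typeCore_eq hG F (hR i), PF8.typeCore_eq_core (Or.inl (hI i))]
  have hpiece := fun i => exists_piece (support_of_facts hG F (hR i)) (hI i)
  choose g ne hsupp hgen hone hnorm hne hdiff using hpiece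
  set e : Quotient conjRel → ℕ := fun i => (Cfsg.fittingHall (R i)).index with he
  have hnc : ∀ i, ∀ x : G, M ≠ (R i).map (MulAut.conj x).toMonoidHom := by
    intro i x h
    have := (BG16.typeI_iff hG F (hR i)).1 (hI i)
    rw [← PF8.kappa_map (MulAut.conj x) (R i), ← h] at this
    exact hκM.ne_empty this
  let Ω : Quotient conjRel → Set G := fun i =>
    Cfsg.tildeOf (R i) ((Cfsg.fittingHallOf (R i) : Set G) \ {1})
  have hΩ : ∀ i, Ω i = Cfsg.tildeOf (R i) ((Cfsg.sigmaCore (R i) : Set G) \ {1}) := fun i => by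
    rw [hσ i]
  have F14 := BG14.tildeFacts hG
  have havoid : ∀ i, ∀ w ∈ W₁ ⊔ W₂, w ∉ W₁ → w ∉ W₂ → w ∉ Ω i := fun i w hw h1 h2 => by
    rw [hΩ i]
    have h := (h1379 M W₁ ⊥ hM hd hP.W₁_ne).2 (R i) (hR i) 1 w (by
      rw [hst]
      exact ⟨hw, fun h => h.elim h1 h2⟩)
    simpa using h
  -- the sets `tilde` of `A(L)` avoid `W ∖ (W₁ ∪ W₂)` as well
  have havoidA : ∀ i, ∀ w ∈ W₁ ⊔ W₂, w ∉ W₁ → w ∉ W₂ → w ∉ Cfsg.tildeOf (R i) (setA (R i)) := by
    rintro i w hw h1 h2 ⟨a, ha, r, hr, y, hwy⟩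
    have S0 := support_of_facts hG F (hR i)
    by_cases hC : centralizer ({a} : Set G) ≤ R i
    · rw [PF8.supportR_eq_bot hC, mem_bot] at hr
      subst hr
      rw [mul_one] at hwy
      rw [setA, if_pos (hI i)] at ha
      obtain ⟨-, -, h, hh, hh1, hah⟩ := ha
      have I := BG14.inputs hG
      obtain ⟨T, ⟨hT, hTst, hTHall⟩, -⟩ := BG14.partner_unique I hM hd hP.W₁_ne
      obtain ⟨P, -⟩ := BG14.pair_of_star I hM hd hP.W₁_ne hT hTst
      have hkst : BG14.kStar M W₁ = W₂ := hst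
      have hwZ : w ∈ BG14.zHat M W₁ := by
        refine ⟨?_, ?_⟩
        · rw [hkst]; exact hw
        · rw [hkst]; exact fun h => h.elim h1 h2
      have hc : (y * h * y⁻¹) * w * (y * h * y⁻¹)⁻¹ = w := by
        rw [hwy]
        calc _ = y * (h * a * h⁻¹) * y⁻¹ := by group
          _ = _ := by rw [← hah, mul_inv_cancel_right]
      have hh' : y * h * y⁻¹ ∈ W₁ ⊔ BG14.kStar M W₁ :=
        P.mem_of_conj_mem_zHat I hwZ (hc.symm ▸ hkst.symm ▸ hw)
      have hh1' : y * h * y⁻¹ ≠ 1 := fun h' => hh1 (conj_eq_one_iff.1 h')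
      obtain ⟨q', hq', hq'd⟩ := Nat.exists_prime_and_dvd (mt orderOf_eq_one_iff.1 hh1')
      have hqL : q' ∈ Cfsg.sigma (R i) := by
        have : orderOf (y * h * y⁻¹) = orderOf h :=
          orderOf_injective (MulAut.conj y).toMonoidHom (MulAut.conj y).injective h
        exact sigmaCore_isPiNumber (R i) q' hq'
          ((this ▸ hq'd).trans (Subgroup.orderOf_dvd_natCard _ (hσ i ▸ hh)))
      have hcard := hq'd.trans (Subgroup.orderOf_dvd_natCard _ hh')
      rw [P.data.card_sup] at hcard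
      rcases (Nat.Prime.dvd_mul hq').1 hcard with hd' | hd'
      · obtain ⟨x, hx⟩ := F.s1378.2 (R i) M (hR i) hM ⟨q', hqL,
          sigmaCore_isPiNumber M q' hq' (hd'.trans (card_dvd_of_le inf_le_left))⟩
        exact hnc i x hx
      · rw [hTst] at hd'
        obtain ⟨x, hx⟩ := F.s1378.2 (R i) T (hR i) hT ⟨q', hqL,
          sigmaCore_isPiNumber T q' hq' (hd'.trans (card_dvd_of_le inf_le_left))⟩
        have hκ := (BG16.typeI_iff hG F (hR i)).1 (hI i)
        rw [← PF8.kappa_map (MulAut.conj x) (R i), ← hx] at hκ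
        obtain ⟨q'', hq'', hq''d⟩ := Nat.exists_prime_and_dvd
          (fun h => (P.data.kStar_ne_bot I) (card_eq_one.1 h))
        exact (hκ ▸ hTHall.2.1 q'' hq'' hq''d : q'' ∈ (∅ : Set ℕ))
    · refine havoid i w hw h1 h2 ⟨a, ?_, r, hr, y, hwy⟩
      have := (S0.unique a (PF8.typeA_subset_typeA0 _ ha) hC).1
      rwa [Cfsg.typeA1, PF8.typeCore_eq_core (Or.inl (hI i))] at this
  have hconj : ∀ i, ∃ (κ : Type u) (_ : Fintype κ) (c : κ → ℂ) (d : κ → G → ℂ),
      g i - Cfsg.conjFun (g i) = ∑ k, c k • d k ∧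
        ∀ k, Cfsg.IsGeneralizedCharacter G (d k) ∧ Cfsg.classInner (d k) (d k) = 2 ∧
          ∀ w ∈ W₁ ⊔ W₂, w ∉ W₁ → w ∉ W₂ → d k w = 0 := fun i => by
    obtain ⟨κ, hfin, c, d, hsum, hd'⟩ := hdiff i
    exact ⟨κ, hfin, c, d, hsum, fun k => ⟨(hd' k).1, (hd' k).2.1,
      fun w hw h1 h2 => (hd' k).2.2 w (havoidA i w hw h1 h2)⟩⟩
  refine ⟨⟨Quotient conjRel, Ω, g, ne, hsupp, fun i j hij => ?_, fun i => ?_, havoid,
    hgen, hone, hnorm, hconj, ?_⟩⟩
  · rw [Set.disjoint_iff_inter_eq_empty, hΩ i, hΩ j]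
    refine BG14.tilde_disjoint F14 (hR i) (hR j) fun x hx => hij ?_
    rw [← Quotient.out_eq i, ← Quotient.out_eq j]
    exact Quotient.sound (s := conjRel) ⟨x, hx⟩
  · rw [dadeSupp_eq_tildeOf, hder, Set.disjoint_iff_inter_eq_empty, hΩ i]
    exact BG14.tilde_disjoint F14 (hR i) hM (hnc i)
  · have hrep : ∀ N : Subgroup G, IsCoatom N → Cfsg.kappa N = ∅ →
        ∃ i, ∃ x : G, N = (R i).map (MulAut.conj x).toMonoidHom := fun N hN hκ => by
      let v : {L : Subgroup G // IsCoatom L ∧ IsTypeI L} :=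
        ⟨N, hN, (BG16.typeI_iff hG F hN).2 hκ⟩
      exact ⟨Quotient.mk conjRel v, Quotient.exact (s := conjRel) (Quotient.out_eq (Quotient.mk conjRel v))⟩
    have hcard : ∀ i, Nat.card (R i) = Nat.card (Cfsg.sigmaCore (R i)) * e i := fun i => by
      rw [hσ i, he, Cfsg.fittingHallOf, Cores.card_map_eq _ (R i).subtype_injective,
        card_mul_index]
    have hm := mass_bound hG F hM hP hII (fun M K U a b c => (h1379 M K U a b c).1) R e hR hcard hrep
    rw [hp, hq] at hm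
    have hq' : (3 : ℝ) / (4 * (p : ℝ)) * (1 - 1 / q - 1 / (2 * p + 1)) ≤
        3 / 4 * ∑ i, 1 / (e i : ℝ) := by
      rw [show (3 : ℝ) / (4 * (p : ℝ)) = 3 / 4 * (1 / (p : ℝ)) by ring, mul_assoc]
      exact mul_le_mul_of_nonneg_left hm (by norm_num)
    refine hq'.trans ?_
    rw [Finset.mul_sum]
    refine Finset.sum_le_sum fun i _ => ?_
    have h3 : (3 : ℝ) * ((ne i : ℝ) + 1) ≤ 4 * e i := by exact_mod_cast hne i
    have he0 : (0 : ℝ) < e i := Nat.cast_pos.2 (Nat.pos_of_ne_zero index_ne_zero_of_finite)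
    rw [div_mul_div_comm, div_le_div_iff₀ (by positivity) (by positivity)]
    linarith

end Cfsg.Agent.OddOrder.PF10
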