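import Cfsg.Prelude.Def_Characters
import Cfsg.Prelude.Def_OddOrderChar

/-!
# Peterfalvi (10.8): what is used about the blocks of Type I

For a maximal subgroup `M` of Type III, IV or V with complement `W₁` of order `q` and `|W₂| = p`,
the classes of Type I maximal subgroups give virtual characters `g i = τ (Ind_H^L 1 - Ind_H^L l)` on
disjoint supports, away from the support of `M` and from `W ∖ (W₁ ∪ W₂)`; `g i - conj (g i)` is a
combination of norm-2 virtual characters vanishing on `W ∖ (W₁ ∪ W₂)`, and the covering of `G`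
gives the lower bound `mass` on `∑ 1 / (e i + 1)`.
-/

set_option autoImplicit false

namespace Cfsg.Agent.OddOrder.PF10

universe u

/-- The data of the Type I blocks seen from one maximal subgroup with support `P`. -/
structure Cover {G : Type u} [Group G] [Fintype G] (P : Set G) (Q₁ Q₂ : Subgroup G) (p q : ℕ) where
  ι : Type u
  [instFintype : Fintype ι]
  Ω : ι → Set G
  g : ι → G → ℂ
  e : ι → ℕ
  supp : ∀ i, ∀ x ∉ Ω i, g i x = 0
  disjoint : ∀ i j, i ≠ j → Disjoint (Ω i) (Ω j)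
  disjoint_P : ∀ i, Disjoint (Ω i) P
  avoid : ∀ i, ∀ w ∈ Q₁ ⊔ Q₂, w ∉ Q₁ → w ∉ Q₂ → w ∉ Ω i
  gen : ∀ i, Cfsg.IsGeneralizedCharacter G (g i)
  inner_one : ∀ i, Cfsg.classInner (g i) (fun _ => 1) = 1
  norm : ∀ i, Cfsg.classInner (g i) (g i) = (e i : ℂ) + 1
  conj_diff : ∀ i, ∃ (κ : Type u) (_ : Fintype κ) (c : κ → ℂ) (d : κ → G → ℂ),
    g i - Cfsg.conjFun (g i) = ∑ k, c k • d k ∧
      ∀ k, Cfsg.IsGeneralizedCharacter G (d k) ∧ Cfsg.classInner (d k) (d k) = 2 ∧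
        ∀ w ∈ Q₁ ⊔ Q₂, w ∉ Q₁ → w ∉ Q₂ → d k w = 0
  mass : 3 / (4 * (p : ℝ)) * (1 - 1 / q - 1 / (2 * p + 1)) ≤ ∑ i, 1 / ((e i : ℝ) + 1)

attribute [instance] Cover.instFintype

end Cfsg.Agent.OddOrder.PF10
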