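import Cfsg.Agent.OddOrder.PF10.Reducible
import Cfsg.Agent.OddOrder.PF10.Cover
import Cfsg.Agent.OddOrder.PF14.Basic
import Cfsg.Agent.OddOrder.PF6.Glue

/-!
# Peterfalvi (10.8): the characters induced from `K` are not coherent

The image `φ₀` of `ζ₀` has coefficient at least `1 - |W₁| / |K|` on the support of `L` and an odd
coefficient on each Type I block; the blocks are too many.
-/

set_option autoImplicit false
set_option linter.unusedSectionVars false

open scoped ComplexConjugate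

namespace Cfsg.Agent.OddOrder.PF10

open Cfsg.Agent H43 Finset
open scoped Classical

universe u

variable {G : Type u} [Group G] [Fintype G] {L : Subgroup G} [Fintype L] {K W₁ W₂ : Subgroup L}
  {A : Set G} {R : G → Subgroup G}
  {χ : (↥(W₁.map L.subtype ⊔ W₂.map L.subtype) →* ℂˣ) → (G → ℂ)}

namespace Base

variable (b : Base K W₁ W₂ A R χ)

include b

/-- Images of functions on `K ∖ {1}` live on the support of `K ∖ {1}`. -/
theorem dade_eq_zero_off {f : L → ℂ} (hf : Cfsg.IsClassFunction L f)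
    (hs : ∀ g : L, g ∉ K ∨ g = 1 → f g = 0) {g : G}
    (hg : g ∉ H43.dadeSupp ((↑(K.map L.subtype) : Set G) \ {1}) R) :
    Cfsg.dadeIsometry A L R f g = 0 := by
  by_cases h : ∃ a : ↥L, (a : G) ∈ A ∧ ∃ x : G, ∃ u ∈ R (a : G), x * g * x⁻¹ = (a : G) * u
  · obtain ⟨a, ha, x, u, hu, hx⟩ := h
    rw [H43.dade_apply b.dadeHyp.dade hf ha hu hx]
    by_contra hne
    have h1 := (mt (hs a)) hne
    rw [not_or, not_not] at h1
    exact hg ⟨a, ⟨⟨a, h1.1, rfl⟩, fun e => h1.2 (Subtype.ext e)⟩, u, hu, x, hx⟩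
  · exact H43.dade_apply_zero h

/-- The image of `ζ₀` cut to `K ∖ {1}` sees `φ₀` as itself. -/
theorem cut_inner {ζ₀ : L → ℂ} {φ₀ : G → ℂ} (hp : Pivot A R K χ ζ₀ φ₀)
    (hx : Exact A R K χ ζ₀ φ₀) (hkey : ∀ a ∈ PF6.seqInd K ⊥, Key A R K ζ₀ φ₀ a) :
    ∃ v : G → ℂ, (∀ g ∉ H43.dadeSupp ((↑(K.map L.subtype) : Set G) \ {1}) R, v g = 0) ∧
      Cfsg.classInner v φ₀ = ((1 - (Nat.card W₁ : ℝ) / Nat.card K : ℝ) : ℂ) ∧
      Cfsg.classInner v v = ((1 - (Nat.card W₁ : ℝ) / Nat.card K : ℝ) : ℂ) := by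
  have := b.K_normal
  have := Fintype.ofFinite K
  set q : ℂ := (Nat.card W₁ : ℂ) with hq
  set w : L → ℂ := fun g => if g = 1 then 0 else ζ₀ g with hw
  have hcl : Cfsg.IsClassFunction L w := fun g y => by
    by_cases e : g = 1
    · subst e; simp [hw]
    · have e' : y * g * y⁻¹ ≠ 1 := fun h => e (by
        rw [mul_inv_eq_one] at h; exact mul_left_cancel (h.trans (mul_one y).symm))
      simp only [hw, if_neg e, if_neg e']
      exact CharBasic.IsIrr.isClassFunction (b.X_irr hp.mem).1 g y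
  have hs : ∀ g : L, g ∉ K ∨ g = 1 → w g = 0 := by
    rintro g (h | rfl)
    · simp [hw, b.X_vanish hp.mem h]
    · simp [hw]
  have hLcard : (Nat.card L : ℂ) = (Nat.card K : ℂ) * q := by
    rw [hq, ← b.index_eq, ← Nat.cast_mul, Subgroup.card_mul_index]
  have hK0 : (Nat.card K : ℂ) ≠ 0 := by exact_mod_cast Nat.card_pos.ne'
  refine ⟨Cfsg.dadeIsometry A L R w, fun g hg => b.dade_eq_zero_off hcl hs hg, ?_, ?_⟩
  · have hrep : (Nat.card K : ℂ) • w = -beta K ζ₀ - ∑ θ ∈ PF6.thetas K ⊥,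
        (θ : K → ℂ) 1 • (Cfsg.indFun K (θ : K → ℂ) - (θ : K → ℂ) 1 • ζ₀) := by
      have hall : ∀ f : IrrCharacter K → ℂ, ∑ θ, f θ =
          f ⟨_, CharBasic.isIrrCharacter_one⟩ + ∑ θ ∈ PF6.thetas K ⊥, f θ := fun f => by
        rw [← add_sum_erase _ _ (mem_univ (⟨_, CharBasic.isIrrCharacter_one⟩ : IrrCharacter K))]
        congr 2
        ext θ
        simp only [mem_erase, mem_univ, and_true, PF6.mem_thetas, ne_eq, Subtype.ext_iff]
        refine ⟨fun h => ⟨h, fun a ha => ?_⟩, fun h => h.1⟩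
        rw [show a = 1 from Subtype.ext (Subgroup.mem_bot.1 ha)]
      funext g
      have hreg : ∑ θ : IrrCharacter K, (θ : K → ℂ) 1 * Cfsg.indFun K (θ : K → ℂ) g =
          if g = 1 then q * (Nat.card K : ℂ) else 0 := by
        have hterm : ∀ θ : IrrCharacter K, (θ : K → ℂ) 1 * Cfsg.indFun K (θ : K → ℂ) g =
            (Nat.card K : ℂ)⁻¹ *
              ∑ y : L, (θ : K → ℂ) 1 * extendByZero K (θ : K → ℂ) (y⁻¹ * g * y) :=
          fun θ => by rw [CharInduce.indFun_apply, mul_left_comm, mul_sum]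
        rw [sum_congr rfl fun θ _ => hterm θ, ← mul_sum, sum_comm]
        by_cases hg : g = 1
        · subst hg
          rw [if_pos rfl, sum_congr rfl (g := fun _ => (Nat.card K : ℂ)) fun y _ => ?_, sum_const,
            card_univ, ← Nat.card_eq_fintype_card, nsmul_eq_mul, hLcard]
          · field_simp
          · simp only [show y⁻¹ * 1 * y = ((1 : K) : L) from by simp, CharInduce.extendByZero_coe]
            rw [CharBasic.sum_degree_mul_apply, if_pos rfl]
        · rw [if_neg hg, sum_eq_zero fun y _ => ?_, mul_zero]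
          by_cases hy : y⁻¹ * g * y ∈ K
          · simp only [CharInduce.extendByZero_of_mem _ hy]
            rw [CharBasic.sum_degree_mul_apply, if_neg]
            intro e
            refine hg ?_
            have e' : y⁻¹ * g * y = 1 := congrArg Subtype.val e
            calc g = y * (y⁻¹ * g * y) * y⁻¹ := by group
              _ = 1 := by rw [e', mul_one, mul_inv_cancel]
          · simp [CharInduce.extendByZero_of_not_mem _ hy]
      have hsq : ∑ θ ∈ PF6.thetas K ⊥, (θ : K → ℂ) 1 * (θ : K → ℂ) 1 = (Nat.card K : ℂ) - 1 := by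
        have h := CharBasic.sum_sq_degree (G := K)
        rw [hall] at h
        simp only [sq, mul_one] at h
        linear_combination h
      rw [hall] at hreg
      simp only [Pi.smul_apply, Pi.sub_apply, Pi.neg_apply, Finset.sum_apply, smul_eq_mul, beta,
        mul_sub, ← mul_assoc, sum_sub_distrib, ← sum_mul, hsq, one_mul] at hreg ⊢
      by_cases hg : g = 1
      · subst hg
        simp only [hw, if_pos, mul_zero, b.X_one hp.mem, ← hq] at hreg ⊢
        linear_combination hreg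
      · simp only [hw, if_neg hg] at hreg ⊢
        linear_combination hreg
    have hterm : ∀ θ ∈ PF6.thetas K ⊥,
        Cfsg.classInner (Cfsg.dadeIsometry A L R
          ((θ : K → ℂ) 1 • (Cfsg.indFun K (θ : K → ℂ) - (θ : K → ℂ) 1 • ζ₀))) φ₀ =
        (θ : K → ℂ) 1 * Cfsg.classInner (Cfsg.indFun K (θ : K → ℂ)) ζ₀ -
          (θ : K → ℂ) 1 * (θ : K → ℂ) 1 := fun θ hθ => by
      obtain ⟨m, -, hm⟩ := CharBasic.IsIrr.exists_degree θ.2
      have h := hkey _ ((PF6.mem_seqInd K).2 ⟨θ, hθ, rfl⟩) m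
        (by rw [CharInduce.indFun_one, hm, Nat.cast_mul])
      rw [← Int.cast_smul_eq_zsmul ℂ, Int.cast_natCast] at h
      rw [PF4.dade_smul, CharBasic.classInner_smul_left, hm, h]
      ring
    have hsum1 : ∑ θ ∈ PF6.thetas K ⊥,
        (θ : K → ℂ) 1 * Cfsg.classInner (Cfsg.indFun K (θ : K → ℂ)) ζ₀ = q := by
      have h : ∀ θ : IrrCharacter K, Cfsg.classInner (Cfsg.indFun K (θ : K → ℂ)) ζ₀ =
          Cfsg.classInner (θ : K → ℂ) (fun k : K => ζ₀ k) := fun θ =>
        CharInduce.classInner_indFun_left K _ _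
          (CharBasic.IsIrr.isClassFunction (b.X_irr hp.mem).1)
      have hall : ∑ θ : IrrCharacter K,
          (θ : K → ℂ) 1 * Cfsg.classInner (θ : K → ℂ) (fun k : K => ζ₀ k) = q := by
        have ht : ∀ θ : IrrCharacter K,
            (θ : K → ℂ) 1 * Cfsg.classInner (θ : K → ℂ) (fun k : K => ζ₀ k) =
              (Nat.card K : ℂ)⁻¹ * ∑ k : K, (θ : K → ℂ) 1 * (θ : K → ℂ) k * conj (ζ₀ k) :=
          fun θ => by
            rw [CharBasic.classInner_def, mul_left_comm, mul_sum]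
            exact congrArg _ (sum_congr rfl fun k _ => (mul_assoc _ _ _).symm)
        rw [sum_congr rfl fun θ _ => ht θ, ← mul_sum, sum_comm]
        simp only [← sum_mul, CharBasic.sum_degree_mul_apply, ite_mul, zero_mul, sum_ite_eq',
          mem_univ, if_true, Subgroup.coe_one, b.X_one hp.mem, Complex.conj_natCast]
        rw [← hq]
        field_simp
      rw [← hall, eq_comm, ← add_sum_erase _ _
        (mem_univ (⟨_, CharBasic.isIrrCharacter_one⟩ : IrrCharacter K)), ← h,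
        (b.inner_indOne_X hp.mem).1, mul_zero, zero_add]
      refine sum_congr ?_ fun θ _ => by rw [h]
      ext θ
      simp only [mem_erase, mem_univ, and_true, PF6.mem_thetas, ne_eq, Subtype.ext_iff]
      refine ⟨fun h => ⟨h, fun a ha => ?_⟩, fun h => h.1⟩
      rw [show a = 1 from Subtype.ext (Subgroup.mem_bot.1 ha)]
    have hsum2 := PF6.sum_thetas K (⊥ : Subgroup L)
    rw [Subgroup.relIndex_bot_left] at hsum2
    have e : Cfsg.classInner (Cfsg.dadeIsometry A L R ((Nat.card K : ℂ) • w)) φ₀ = _ :=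
      congrArg (fun f => Cfsg.classInner (Cfsg.dadeIsometry A L R f) φ₀) hrep
    beta_reduce at e
    rw [PF4.dade_smul, PF4.dade_sub, PF4.dade_sum, CharBasic.classInner_smul_left,
      CharBasic.classInner_sub_left, CharBasic.classInner_sum_left] at e
    rw [show -beta K ζ₀ = (-1 : ℂ) • beta K ζ₀ by rw [neg_smul, one_smul], PF4.dade_smul,
      CharBasic.classInner_smul_left, sum_congr rfl hterm, sum_sub_distrib, hsum1,
      show Cfsg.classInner (Cfsg.dadeIsometry A L R (beta K ζ₀)) φ₀ = -1 from b.exact_phi hp hx] at e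
    simp only [← sq] at e
    rw [hsum2] at e
    push_cast
    rw [← hq]
    field_simp
    linear_combination e
  · have hwA := b.vanish_of_supp hs
    rw [inner_dade b.dadeHyp.dade hcl hwA hcl hwA]
    have h1 := CharBasic.classInner_irr_self (b.X_irr hp.mem).1
    rw [CharBasic.classInner_def, ← add_sum_erase _ _ (mem_univ (1 : L)), b.X_one hp.mem,
      Complex.conj_natCast] at h1
    rw [CharBasic.classInner_def, ← add_sum_erase _ _ (mem_univ (1 : L)),
      sum_congr rfl (g := fun g => ζ₀ g * conj (ζ₀ g)) fun g hg => by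
        simp only [hw, if_neg (mem_erase.1 hg).1]]
    simp only [hw, if_pos, zero_mul, zero_add]
    rw [hLcard] at h1 ⊢
    push_cast
    rw [← hq] at h1 ⊢
    have hq0 : q ≠ 0 := by rw [hq]; exact_mod_cast Nat.card_pos.ne'
    field_simp at h1 ⊢
    linear_combination h1

/-- The coefficient of `φ₀` on a block is odd. -/
theorem block_odd {ζ₀ : L → ℂ} {φ₀ : G → ℂ} (hp : Pivot A R K χ ζ₀ φ₀)
    (hx : Exact A R K χ ζ₀ φ₀) {g : G → ℂ} (hg : Cfsg.IsGeneralizedCharacter G g) {Ω : Set G}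
    (hsupp : ∀ x ∉ Ω, g x = 0)
    (hdisj : Disjoint Ω (H43.dadeSupp ((↑(K.map L.subtype) : Set G) \ {1}) R))
    (hone : Cfsg.classInner g (fun _ => 1) = 1)
    (hconj : ∃ (κ : Type u) (_ : Fintype κ) (c : κ → ℂ) (d : κ → G → ℂ),
      g - Cfsg.conjFun g = ∑ k, c k • d k ∧
        ∀ k, Cfsg.IsGeneralizedCharacter G (d k) ∧ Cfsg.classInner (d k) (d k) = 2 ∧
          ∀ w ∈ W₁.map L.subtype ⊔ W₂.map L.subtype, w ∉ W₁.map L.subtype →
            w ∉ W₂.map L.subtype → d k w = 0) :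
    ∃ a : ℤ, Odd a ∧ Cfsg.classInner g φ₀ = a := by
  obtain ⟨a, ha⟩ := gen_inner_int hg hp.gen
  choose c hc using fun ω => gen_inner_int hg (PF4.DadeHyp.eta_signed b.family ω).gen
  refine ⟨a, ?_, ha⟩
  have hsym : ∀ φ ∈ rowSet W₁ W₂, c φ⁻¹ = c φ := fun φ _ => by
    apply Int.cast_injective (α := ℂ)
    rw [← hc, ← hc]
    refine inner_inv_of_orth b.dadeHyp b.family hg ?_
    obtain ⟨κ, _, m, d, hd, hd'⟩ := hconj
    rw [hd, CharBasic.classInner_sum_left]
    refine sum_eq_zero fun k _ => ?_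
    rw [CharBasic.classInner_smul_left, PF4.eta, PF3.orth_of_norm_two b.dadeHyp.selfNorm b.dadeHyp.odd b.family
      (hd' k).1 (hd' k).2.1 (fun w h1 h2 => (hd' k).2.2 _ w.2 h1 h2) _, mul_zero]
  have h0 : Cfsg.classInner g (gam A R K ζ₀) = 0 :=
    PF14.inner_eq_zero_of_disjoint hsupp
      (fun x hx' => b.dade_eq_zero_off (gen_isClassFunction (b.gen_beta hp.mem))
        (b.supp_beta hp.mem) hx') hdisj
  have hx' : gam A R K ζ₀ = (fun _ => (1 : ℂ)) - φ₀ + rowSum W₁ W₂ χ := hx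
  rw [hx', CharBasic.classInner_add_right, CharBasic.classInner_sub_right, hone, ha, rowSum,
    CharBasic.classInner_sum_right, sum_congr rfl fun φ _ => hc φ] at h0
  have h1 : a = 1 + ∑ φ ∈ rowSet W₁ W₂, c φ := by
    apply Int.cast_injective (α := ℂ)
    push_cast
    linear_combination -h0
  rw [h1, add_comm]
  exact (b.even_rowSet_sum c hsym).add_one

/-- Peterfalvi (10.8), the estimate: exactness and the key equation on all members contradict the
covering by the blocks of Type I. -/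
theorem false_of_exact_key {ζ₀ : L → ℂ} {φ₀ : G → ℂ} (hp : Pivot A R K χ ζ₀ φ₀)
    (hx : Exact A R K χ ζ₀ φ₀) (hkey : ∀ a ∈ PF6.seqInd K ⊥, Key A R K ζ₀ φ₀ a) {P : Set G}
    (hP : H43.dadeSupp ((↑(K.map L.subtype) : Set G) \ {1}) R ⊆ P) {p q : ℕ}
    (cv : Cover P (W₁.map L.subtype) (W₂.map L.subtype) p q) (hp3 : 3 ≤ p)
    (hq : Nat.card W₁ = q) (hbig : (2 * q + 1) * p ≤ Nat.card K)
    (hbig3 : q = 3 → 8 * p ≤ Nat.card K) : False := by
  obtain ⟨v₀, hv₀, hv₁, hv₂⟩ := b.cut_inner hp hx hkey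
  have hA := fun i => b.block_odd hp hx (cv.gen i) (cv.supp i) ((cv.disjoint_P i).mono_right hP)
    (cv.inner_one i) (cv.conj_diff i)
  choose a hodd ha using hA
  let C : cv.ι → ℝ := fun i => (a i : ℝ) / ((cv.e i : ℝ) + 1)
  let v : Option cv.ι → G → ℂ := fun o => o.elim v₀ fun i => (C i : ℂ) • cv.g i
  have horth : ∀ i ∈ (univ : Finset (Option cv.ι)), ∀ j ∈ (univ : Finset (Option cv.ι)), i ≠ j →
      Cfsg.classInner (v i) (v j) = 0 := by
    intro i _ j _ hij
    rcases i with _ | i <;> rcases j with _ | j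
    · exact absurd rfl hij
    · simp only [v, Option.elim_none, Option.elim_some, CharBasic.classInner_smul_right]
      rw [PF14.inner_eq_zero_of_disjoint hv₀ (cv.supp j) ((cv.disjoint_P j).mono_right hP).symm,
        mul_zero]
    · simp only [v, Option.elim_none, Option.elim_some, CharBasic.classInner_smul_left]
      rw [PF14.inner_eq_zero_of_disjoint (cv.supp i) hv₀ ((cv.disjoint_P i).mono_right hP),
        mul_zero]
    · simp only [v, Option.elim_some, CharBasic.classInner_smul_left, CharBasic.classInner_smul_right]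
      rw [PF14.inner_eq_zero_of_disjoint (cv.supp i) (cv.supp j)
        (cv.disjoint i j fun e => hij (by rw [e])), mul_zero, mul_zero]
  have hb := PF14.bessel univ φ₀ v horth
  rw [Fintype.sum_option, hp.norm] at hb
  have ha' : ∀ i, Cfsg.classInner φ₀ (cv.g i) = (a i : ℂ) := fun i => by
    rw [← CharInduce.conj_classInner, ha, map_intCast]
  have hv₁' : Cfsg.classInner φ₀ v₀ =
      ((1 - (Nat.card W₁ : ℝ) / Nat.card K : ℝ) : ℂ) := by
    rw [← CharInduce.conj_classInner, hv₁, Complex.conj_ofReal]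
  simp only [v, Option.elim_none, Option.elim_some, CharBasic.classInner_smul_left,
    CharBasic.classInner_smul_right, Complex.conj_ofReal, cv.norm, ha', hv₁', hv₂] at hb
  norm_cast at hb
  have hsum : ∑ i, 1 / ((cv.e i : ℝ) + 1) ≤ (q : ℝ) / Nat.card K := by
    refine le_trans (sum_le_sum fun i _ => ?_) (show ∑ i, (2 * (C i * a i) - C i * (C i * ((cv.e i + 1 : ℕ) : ℝ))) ≤ (q : ℝ) / Nat.card K by
      rw [hq] at hb
      push_cast at hb ⊢
      linarith)
    have he : (0 : ℝ) < (cv.e i : ℝ) + 1 := by positivity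
    have h1 : (1 : ℝ) ≤ (a i : ℝ) * a i := by
      have : (a i) ≠ 0 := fun e => by simpa [e] using hodd i
      exact_mod_cast (show (1 : ℤ) ≤ a i * a i from mul_self_pos.2 this)
    push_cast
    simp only [C]
    rw [show 2 * ((a i : ℝ) / ((cv.e i : ℝ) + 1) * a i) - (a i : ℝ) / ((cv.e i : ℝ) + 1) *
        ((a i : ℝ) / ((cv.e i : ℝ) + 1) * ((cv.e i : ℝ) + 1)) =
          (a i : ℝ) * a i / ((cv.e i : ℝ) + 1) by field_simp; ring]
    gcongr
  have hm := cv.mass.trans hsum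
  have hq3 : 3 ≤ q := hq ▸ b.three_le
  have hK : (0 : ℝ) < Nat.card K := by exact_mod_cast Nat.card_pos
  have hp' : (3 : ℝ) ≤ p := by exact_mod_cast hp3
  have hq' : (3 : ℝ) ≤ q := by exact_mod_cast hq3
  have h7 : (1 : ℝ) / (2 * p + 1) ≤ 1 / 7 := one_div_le_one_div_of_le (by norm_num) (by linarith)
  have hlow : 3 / (4 * (p : ℝ)) * (6 / 7 - 1 / q) ≤ (q : ℝ) / Nat.card K := by
    refine le_trans ?_ hm
    exact mul_le_mul_of_nonneg_left (by linarith) (by positivity)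
  rw [div_mul_eq_mul_div, div_le_div_iff₀ (by positivity) hK] at hlow
  rcases eq_or_lt_of_le hq3 with e | e
  · have h8 : (8 : ℝ) * p ≤ Nat.card K := by exact_mod_cast hbig3 e.symm
    have hq3' : (q : ℝ) = 3 := by exact_mod_cast e.symm
    rw [hq3'] at hlow
    rw [show (3 : ℝ) * (6 / 7 - 1 / 3) = 11 / 7 by norm_num] at hlow
    linarith
  · have hq4 : (4 : ℝ) ≤ q := by exact_mod_cast e
    have hb' : (2 * (q : ℝ) + 1) * p ≤ Nat.card K := by exact_mod_cast hbig
    have hX : 0 ≤ 6 / 7 - 1 / (q : ℝ) := by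
      have : (1 : ℝ) / q ≤ 1 / 4 := one_div_le_one_div_of_le (by norm_num) hq4
      linarith
    have h2 : 3 * (6 / 7 - 1 / (q : ℝ)) * ((2 * q + 1) * p) ≤ q * (4 * p) :=
      le_trans (mul_le_mul_of_nonneg_left hb' (by positivity)) hlow
    have h3 : 3 * (6 / 7 - 1 / (q : ℝ)) * (2 * q + 1) ≤ 4 * q := by
      refine le_of_mul_le_mul_right ?_ (show (0 : ℝ) < p by linarith)
      linarith
    have h4 : (6 / 7 - 1 / (q : ℝ)) * q = 6 / 7 * q - 1 := by field_simp
    nlinarith [mul_le_mul_of_nonneg_right h3 (show (0 : ℝ) ≤ (q : ℝ) by linarith)]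

/-- A coherent extension of the Dade map gives a pivot. -/
theorem pivot_of_coherent {T : Set (L → ℂ)} {τ₁ : (L → ℂ) → (G → ℂ)}
    (hτ₁ : Cfsg.IsLinearIsometryOn (Cfsg.zspan T) τ₁)
    (hagree : ∀ α ∈ Cfsg.zspanOn T ({1}ᶜ : Set L), τ₁ α = Cfsg.dadeIsometry A L R α)
    (hT : T ⊆ Cfsg.inducedIrrAbove K ⊥) (hX : (↑(X K) : Set (L → ℂ)) ⊆ T) {ζ₀ : L → ℂ}
    (hζ : ζ₀ ∈ X K) : Pivot A R K χ ζ₀ (τ₁ ζ₀) where
  mem := hζ
  gen := iso_gen hτ₁ (zspan_mem (hX hζ))
  norm := by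
    rw [iso_inner hτ₁ (zspan_mem (hX hζ)) (zspan_mem (hX hζ)), b.X_orth hζ hζ, if_pos rfl]
  key a ha := by
    have hz : a - ζ₀ ∈ Cfsg.zspanOn T ({1}ᶜ : Set L) := zspanOn_compl_one.2
      ⟨zspan_sub (zspan_mem (hX ha)) (zspan_mem (hX hζ)), by simp [b.X_one ha, b.X_one hζ]⟩
    rw [← hagree _ hz, iso_inner hτ₁ hz.1 (zspan_mem (hX hζ)), CharBasic.classInner_sub_left,
      b.X_orth hζ hζ, if_pos rfl]
  orth ω := by
    obtain ⟨S, hSdef⟩ : ∃ S, S = Cfsg.inducedIrrAbove K ⊥ := ⟨_, rfl⟩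
    have hS : ∀ φ ∈ S, ∃ θ : K → ℂ, Cfsg.IsIrrCharacter K θ ∧
        (∃ n : K, (n : L) ∈ K ∧ θ n ≠ θ 1) ∧ φ = Cfsg.indFun K θ :=
      fun φ hφ => b.mem_bot_spec (hSdef ▸ subset_rfl) hφ
    obtain ⟨Rs, hsys, hirr, -⟩ := b.dadeHyp.exists_system b.family b.supp b.odd (S := S)
      ⟨ζ₀, hSdef ▸ b.X_sub hζ⟩
      (fun φ hφ => by rw [hSdef] at hφ ⊢; exact PF6.inducedIrrAbove_conj K hφ) hS
    rw [sys_image_eq_proj hsys hτ₁ hagree (hSdef ▸ hT (hX hζ)) (hX hζ) (hX (b.X_conj hζ)), proj,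
      CharBasic.classInner_sum_left]
    exact sum_eq_zero fun r hr => by
      rw [CharBasic.classInner_smul_left, hirr _ (hSdef ▸ hT (hX hζ)) (b.X_irr hζ).1 r hr ω, mul_zero]

theorem red_mem {ψ : ↥(W₁ ⊔ W₂) →* ℂˣ} (hψ : ψ ∈ colSet W₁ W₂) :
    b.dadeHyp.prime.red ψ ∈ Cfsg.inducedIrrAbove K ⊥ := by
  refine ⟨b.dadeHyp.prime.theta ψ, b.dadeHyp.prime.theta_irr ψ, fun e => ?_, fun a ha => ?_, rfl⟩
  · have hnt : ∃ w : ↥(W₁ ⊔ W₂), (w : L) ∈ W₂ ∧ ψ w ≠ 1 := by
      have h := b.colSet_not_trivR hψ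
      unfold TrivR at h
      push Not at h
      exact h
    obtain ⟨n, -, hn⟩ := b.dadeHyp.prime.theta_nt b.dadeHyp.prime.le hnt
    simp [e] at hn
  · rw [show a = 1 from Subtype.ext (Subgroup.mem_bot.1 ha)]

/-- The degree of the character of a column exceeds `|W₁|`. -/
theorem lt_mu_one {ψ : ↥(W₁ ⊔ W₂) →* ℂˣ} (hψ : ψ ∈ colSet W₁ W₂) :
    ∃ d : ℕ, b.dadeHyp.prime.mu ψ 1 = d ∧ Nat.card W₁ < d := by
  have := Fintype.ofFinite K
  obtain ⟨d, -, hd⟩ := CharBasic.IsIrr.exists_degree (b.dadeHyp.prime.theta_irr ψ)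
  refine ⟨d, hd, ?_⟩
  have hodd : Odd d := by
    obtain ⟨m, -, hm, hdvd, -⟩ := CharBasic.IsIrr.degree_dvd (b.dadeHyp.prime.theta_irr ψ)
    rw [hd, Nat.cast_inj] at hm
    exact hm ▸ (b.odd.of_dvd_nat K.card_subgroup_dvd_card).of_dvd_nat hdvd
  have hne1 : d ≠ 1 := fun e1 => by
    have hnt : ∃ w : ↥(W₁ ⊔ W₂), (w : L) ∈ W₂ ∧ ψ w ≠ 1 := by
      have h := b.colSet_not_trivR hψ
      unfold TrivR at h
      push Not at h
      exact h
    obtain ⟨n, hn, hne⟩ := b.dadeHyp.prime.theta_nt b.W₂_le hnt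
    refine hne ?_
    have hn' : n ∈ commutator K := by
      have h := hn
      rw [← Subgroup.map_subtype_commutator] at h
      obtain ⟨m, hm, e⟩ := h
      rwa [Subgroup.subtype_injective K e] at hm
    obtain ⟨f, hf⟩ := CharInduce.IsChar.exists_hom_of_degree_one
      (CharBasic.IsIrr.isCharacter (b.dadeHyp.prime.theta_irr ψ)) (by rw [hd, e1, Nat.cast_one])
    rw [hf]
    simp [MonoidHom.mem_ker.1 (Abelianization.commutator_subset_ker f hn'), hd, e1]
  obtain ⟨n, hn⟩ := b.dadeHyp.prime.mu_one_mod ψ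
  have hq : Odd (Nat.card W₁) := b.dadeHyp.card_facts.1
  have h3 := b.three_le
  obtain ⟨j, hj⟩ := hodd
  obtain ⟨i, hi⟩ := hq
  have hmu : b.dadeHyp.prime.mu ψ 1 = (d : ℂ) := hd
  rw [hmu] at hn
  by_contra hle
  have key : ∃ s : ℤ, (s = 1 ∨ s = -1) ∧ (d : ℤ) - s = n * (Nat.card W₁ : ℤ) := by
    rcases b.dadeHyp.prime.delta_eq ψ with e | e <;> rw [e] at hn
    · exact ⟨1, Or.inl rfl, by exact_mod_cast hn⟩
    · refine ⟨-1, Or.inr rfl, ?_⟩
      exact_mod_cast hn
  obtain ⟨s, hs, hs'⟩ := key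
  have hn0 : n = 0 ∨ n = 1 := by
    rcases lt_trichotomy n 0 with h | h | h
    · rcases hs with rfl | rfl <;> nlinarith
    · exact Or.inl h
    · refine Or.inr ?_
      by_contra hne
      have : (2 : ℤ) ≤ n := by omega
      rcases hs with rfl | rfl <;> nlinarith
  rcases hn0 with rfl | rfl <;> rcases hs with rfl | rfl <;> omega

/-- Peterfalvi (10.8): the characters induced from `K` are not coherent. -/
theorem false_of_coherent
    (hcoh : Cfsg.IsCoherent (Cfsg.inducedIrrAbove K ⊥) ({1}ᶜ : Set L) (Cfsg.dadeIsometry A L R))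
    {P : Set G} (hP : H43.dadeSupp ((↑(K.map L.subtype) : Set G) \ {1}) R ⊆ P) {p q : ℕ}
    (cv : Cover P (W₁.map L.subtype) (W₂.map L.subtype) p q) (hp3 : 3 ≤ p)
    (hq : Nat.card W₁ = q) (hbig : (2 * q + 1) * p ≤ Nat.card K)
    (hbig3 : q = 3 → 8 * p ≤ Nat.card K) : False := by
  obtain ⟨-, τ₁, hτ₁, hagree⟩ := hcoh
  obtain ⟨ζ₀, hζ⟩ := b.X_nonempty
  set S := Cfsg.inducedIrrAbove K ⊥ with hSdef
  have hp := b.pivot_of_coherent hτ₁ hagree subset_rfl b.X_sub hζ
  set φ₀ := τ₁ ζ₀ with hφ₀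
  set γ := gam A R K ζ₀ with hγ
  have hgen := b.gen_gam hp.mem
  obtain ⟨hN, hone⟩ := b.gam_norm hp.mem
  choose c hc using fun ω => gen_inner_int hgen (PF4.DadeHyp.eta_signed b.family ω).gen
  obtain ⟨k, hk⟩ := gen_inner_int hgen hp.gen
  have hS : ∀ φ ∈ S, ∃ θ : K → ℂ, Cfsg.IsIrrCharacter K θ ∧
      (∃ n : K, (n : L) ∈ K ∧ θ n ≠ θ 1) ∧ φ = Cfsg.indFun K θ :=
    fun φ hφ => b.mem_bot_spec subset_rfl hφ
  obtain ⟨Rs, hsys, hirr, hred⟩ := b.dadeHyp.exists_system b.family b.supp b.odd (S := S)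
    ⟨ζ₀, b.X_sub hζ⟩ (fun φ hφ => PF6.inducedIrrAbove_conj K hφ) hS
  -- every column sum is zero
  have hcol : ∀ ψ ∈ colSet W₁ W₂, colSum γ χ ψ = 0 ∧ k = -1 := by
    intro ψ hψ
    have hψS := b.red_mem hψ
    obtain ⟨d, hd, hqd⟩ := b.lt_mu_one hψ
    have hredd : b.dadeHyp.prime.red ψ 1 = (Nat.card W₁ : ℂ) * d := by
      rw [b.dadeHyp.prime.red_one, hd]
    have hne : ∀ η, ζ₀ ≠ b.dadeHyp.prime.red η := fun η e =>
      b.dadeHyp.prime.red_not_irr η (e ▸ (b.X_irr hζ).1)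
    have hz : b.dadeHyp.prime.red ψ - (d : ℤ) • ζ₀ ∈ Cfsg.zspanOn S ({1}ᶜ : Set L) :=
      zspanOn_compl_one.2 ⟨zspan_sub (zspan_mem hψS) (zspan_zsmul (zspan_mem (b.X_sub hζ)) _), by
        simp [hredd, b.X_one hζ, mul_comm]⟩
    have hval : Cfsg.classInner γ (τ₁ (b.dadeHyp.prime.red ψ)) = (d : ℂ) + d * k := by
      have h1 : Cfsg.classInner γ (τ₁ (b.dadeHyp.prime.red ψ - (d : ℤ) • ζ₀)) = d := by
        rw [hagree _ hz, hγ, gam,
          inner_dade b.dadeHyp.dade (gen_isClassFunction (b.gen_beta hζ)) (b.beta_A hζ)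
            (gen_isClassFunction (b.dadeHyp.span_vanish b.supp hS hz.1).1)
            (fun x hx => by
              by_cases e : x = 1
              · exact e ▸ (zspanOn_compl_one.1 hz).2
              · exact (b.dadeHyp.span_vanish b.supp hS hz.1).2 x e hx),
          beta, ← Int.cast_smul_eq_zsmul ℂ, CharBasic.classInner_sub_left,
          CharBasic.classInner_sub_right, CharBasic.classInner_sub_right,
          CharBasic.classInner_smul_right, CharBasic.classInner_smul_right,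
          (b.X_orth_red hζ ψ).1, (b.inner_indOne_X hζ).1, b.X_orth hζ hζ, if_pos rfl, ← b.red_one_eq,
          b.dadeHyp.prime.classInner_red_ne fun h => b.colSet_not_trivR hψ fun w hw => by
            rw [← h w hw, MonoidHom.one_apply]]
        simp
      rw [iso_sub hτ₁ (zspan_mem hψS) (zspan_zsmul (zspan_mem (b.X_sub hζ)) _) hz.1,
        hτ₁.2.1 _ (zspan_mem (b.X_sub hζ)), CharBasic.classInner_sub_right,
        H43.classInner_zsmul_right, ← hφ₀, hk, Int.cast_natCast] at h1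
      linear_combination h1
    have hsymc : colSum γ χ ψ⁻¹ = colSum γ χ ψ := by
      simp only [colSum]
      refine sum_bij' (fun φ _ => φ⁻¹) (fun φ _ => φ⁻¹) ?_ ?_ (fun φ _ => inv_inv φ)
        (fun φ _ => inv_inv φ) fun φ _ => ?_
      · intro φ hφ
        simp only [mem_filter, mem_univ, true_and] at hφ ⊢
        exact fun w hw => by simp [hφ w hw]
      · intro φ hφ
        simp only [mem_filter, mem_univ, true_and] at hφ ⊢
        exact fun w hw => by simp [hφ w hw]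
      · rw [hγ, ← b.gam_sym hζ (φ⁻¹ * ψ), show (φ⁻¹ * ψ)⁻¹ = φ * ψ⁻¹ from by ext; simp [mul_comm]]
    have habs : ∃ s : ℂ, (s = 1 ∨ s = -1) ∧ s * colSum γ χ ψ = (d : ℂ) * (1 + k) := by
      have hδ : ∀ x : ℂ, x = 1 ∨ x = -1 → conj x = x := by rintro x (rfl | rfl) <;> simp
      rcases b.dadeHyp.red_image b.family hsys hS hirr hred subset_rfl
          (fun φ hφ => PF6.inducedIrrAbove_conj K hφ) hτ₁ hagree (b.mem_colSet.1 hψ).1
          (b.colSet_not_trivR hψ) hψS (b.X_sub hζ) (hne ψ) (hne ψ⁻¹) with e | e <;>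
        rw [e, CharBasic.classInner_smul_right, CharBasic.classInner_sum_right] at hval
      · refine ⟨_, b.dadeHyp.prime.delta_eq ψ, ?_⟩
        rw [hδ _ (b.dadeHyp.prime.delta_eq ψ)] at hval
        simp only [colSum]
        rw [hval]
        ring
      · refine ⟨-b.dadeHyp.prime.delta ψ, ?_, ?_⟩
        · rcases b.dadeHyp.prime.delta_eq ψ with e | e <;> simp [e]
        · rw [map_neg, hδ _ (b.dadeHyp.prime.delta_eq ψ)] at hval
          rw [← hsymc]
          simp only [colSum]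
          rw [hval]
          ring
    set C : ℤ := ∑ φ ∈ univ.filter (fun φ : ↥(W₁ ⊔ W₂) →* ℂˣ => TrivR φ), c (φ * ψ) with hC
    have hCeq : colSum γ χ ψ = (C : ℂ) := by
      rw [colSum, hC, Int.cast_sum]
      exact sum_congr rfl fun φ _ => hc _
    obtain ⟨s, hs, hseq⟩ := habs
    rw [hCeq] at hseq ⊢
    have hsq : C ^ 2 = (d : ℤ) ^ 2 * (1 + k) ^ 2 := by
      rcases hs with rfl | rfl
      · have : C = (d : ℤ) * (1 + k) := by exact_mod_cast (one_mul (C : ℂ)).symm.trans hseq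
        rw [this]; ring
      · have : -C = (d : ℤ) * (1 + k) := by exact_mod_cast (neg_one_mul (C : ℂ)).symm.trans hseq
        rw [← neg_sq, this]; ring
    -- the budget
    have hN' : Cfsg.classInner γ γ = (((Nat.card W₁ : ℕ) + 1 : ℤ) : ℂ) := by rw [hN]; norm_cast
    set x : (L → ℂ) → ℤ := fun a => k + if a = ζ₀ then 0 else 1 with hx
    have hxe : ∀ a ∈ X K, Cfsg.classInner γ (b.phi ζ₀ φ₀ a) = x a := fun a ha => by
      rw [hγ, b.inner_gam_phi hp ha, ← hγ, hk, hx]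
      split_ifs with h <;> simp [h]
    have hle := (b.budget hp hc hxe hN').1
    have hc1 : c 1 = 1 := by
      have := hc 1
      rw [b.dadeHyp.eta_one b.family, hone] at this
      exact_mod_cast this.symm
    have hpart : 1 + ∑ φ ∈ univ.filter (fun φ : ↥(W₁ ⊔ W₂) →* ℂˣ => TrivR φ), c (φ * ψ) ^ 2 ≤
        ∑ ω, c ω ^ 2 := by
      have hinj : Set.InjOn (fun φ : ↥(W₁ ⊔ W₂) →* ℂˣ => φ * ψ)
          ↑(univ.filter fun φ : ↥(W₁ ⊔ W₂) →* ℂˣ => TrivR φ) := fun φ _ φ' _ e => by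
        ext w
        have := congrArg (fun f : ↥(W₁ ⊔ W₂) →* ℂˣ => ((f w : ℂˣ) : ℂ)) e
        simpa using this
      have hnot : (1 : ↥(W₁ ⊔ W₂) →* ℂˣ) ∉
          (univ.filter fun φ : ↥(W₁ ⊔ W₂) →* ℂˣ => TrivR φ).image (fun φ => φ * ψ) := by
        simp only [mem_image, mem_filter, mem_univ, true_and, not_exists, not_and]
        intro φ hφ e
        refine b.colSet_not_trivR hψ fun w hw => ?_
        have := DFunLike.congr_fun e w
        rwa [MonoidHom.mul_apply, hφ w hw, one_mul, MonoidHom.one_apply] at this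
      have h1 := sum_insert (f := fun ω => c ω ^ 2) hnot
      rw [sum_image hinj, hc1, one_pow] at h1
      rw [← h1]
      exact sum_le_sum_of_subset_of_nonneg (subset_univ _) fun _ _ _ => sq_nonneg _
    have hcs := sq_sum_le_card_mul_sum_sq
      (s := univ.filter fun φ : ↥(W₁ ⊔ W₂) →* ℂˣ => TrivR φ) (f := fun φ => c (φ * ψ))
    have hcard : (((univ.filter fun φ : ↥(W₁ ⊔ W₂) →* ℂˣ => TrivR φ).card : ℕ) : ℤ) =
        Nat.card W₁ := by
      rw [← (PF3.card_trivR_trivL b.pair).1, Nat.card_eq_fintype_card, Fintype.card_subtype]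
    rw [← hC, hcard, hsq] at hcs
    have hk0 : 1 + k = 0 := by
      by_contra hne0
      have h1 : (1 : ℤ) ≤ (1 + k) ^ 2 := sq_pos_iff.2 hne0
      have hxs : 0 ≤ ∑ a ∈ X K, x a ^ 2 := sum_nonneg fun _ _ => sq_nonneg _
      have hdq : ((Nat.card W₁ : ℕ) : ℤ) + 1 ≤ d := by exact_mod_cast hqd
      have h2 : (d : ℤ) ^ 2 ≤ (d : ℤ) ^ 2 * (1 + k) ^ 2 := le_mul_of_one_le_right (sq_nonneg _) h1
      nlinarith
    rw [hk0] at hsq
    simp only [ne_eq, OfNat.ofNat_ne_zero, not_false_eq_true, zero_pow, mul_zero,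
      pow_eq_zero_iff] at hsq
    exact ⟨by simp [hsq], by linarith⟩
  obtain ⟨φ₁, hp₁, hx₁⟩ := b.exists_exact_of_cols hp fun ψ hψ => (hcol ψ hψ).1
  -- the exact pivot is the given one
  have hk1 : k = -1 := by
    obtain ⟨ψ, hψ⟩ := b.colSet_nonempty
    exact (hcol ψ hψ).2
  have heq : φ₁ = φ₀ := by
    have h1 : Cfsg.classInner φ₀ φ₁ = 1 := by
      have hx' : gam A R K ζ₀ = (fun _ => (1 : ℂ)) - φ₁ + rowSum W₁ W₂ χ := hx₁
      have h := hk
      rw [hx', CharBasic.classInner_add_left, CharBasic.classInner_sub_left, rowSum,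
        CharBasic.classInner_sum_left, sum_eq_zero fun ω _ => by
          rw [← CharInduce.conj_classInner, hp.orth, map_zero], ← b.dadeHyp.eta_one b.family,
        ← CharInduce.conj_classInner (φ := φ₀) (ψ := PF4.eta χ 1), hp.orth, map_zero, hk1] at h
      rw [← CharInduce.conj_classInner φ₁ φ₀, show Cfsg.classInner φ₁ φ₀ = 1 by
        push_cast at h; linear_combination -h, map_one]
    refine sub_eq_zero.1 (CharBasic.classInner_self_eq_zero.1 ?_)
    simp only [CharBasic.classInner_sub_left, CharBasic.classInner_sub_right, hp₁.norm, hp.norm, h1]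
    rw [← CharInduce.conj_classInner φ₀ φ₁, h1, map_one]
    ring
  refine b.false_of_exact_key hp (heq ▸ hx₁) (fun a ha m hm => ?_) hP cv hp3 hq hbig hbig3
  have haS : a ∈ S := by rw [hSdef, ← PF6.coe_seqInd]; exact ha
  have hz : a - (m : ℤ) • ζ₀ ∈ Cfsg.zspanOn S ({1}ᶜ : Set L) := zspanOn_compl_one.2
    ⟨zspan_sub (zspan_mem haS) (zspan_zsmul (zspan_mem (b.X_sub hζ)) _), by
      simp [hm, b.X_one hζ, b.index_eq, mul_comm]⟩
  rw [← hagree _ hz, hφ₀, iso_inner hτ₁ hz.1 (zspan_mem (b.X_sub hζ)),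
    CharBasic.classInner_sub_left, H43.classInner_zsmul_left, b.X_orth hζ hζ, if_pos rfl]
  simp

end Base

end Cfsg.Agent.OddOrder.PF10
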