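import Cfsg.Agent.OddOrder.PF4.RedImage
import Cfsg.Agent.OddOrder.PF6.System
import Cfsg.Agent.OddOrder.PF9.LinearClifford

/-!
# Peterfalvi section 10: the setting, `β = Ind_K^L 1 - ζ₀`, and pivots

`L = K W₁` with the hypotheses of section 4, `N = K` (all of `K ∖ {1}` in the Dade set), `K` solvable
and `W₂ ≤ K'`.  `X` is the set of functions induced from the non-principal linear characters of `K`.
-/

set_option autoImplicit false
set_option linter.unusedSectionVars false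

open scoped ComplexConjugate

namespace Cfsg.Agent.OddOrder.PF10

open Cfsg.Agent H43 Finset
open scoped Classical

universe u

/-- The common hypotheses for maximal subgroups of Type III, IV and V. -/
structure Base {G : Type u} [Group G] [Fintype G] {L : Subgroup G} (K W₁ W₂ : Subgroup L)
    (A : Set G) (R : G → Subgroup G)
    (χ : (↥(W₁.map L.subtype ⊔ W₂.map L.subtype) →* ℂˣ) → (G → ℂ)) : Prop where
  dadeHyp : PF4.DadeHyp K W₁ W₂ A R
  family : Cfsg.IsCyclicTIFamily (W₁.map L.subtype) (W₂.map L.subtype) χ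
  supp : PF4.SuppHyp K W₂ K A
  odd : Odd (Nat.card L)
  solvable : Group.IsSolvable K
  W₂_le : W₂ ≤ ⁅K, K⁆

variable {G : Type u} [Group G] [Fintype G] {L : Subgroup G} [Fintype L] {K W₁ W₂ : Subgroup L}
  {A : Set G} {R : G → Subgroup G}
  {χ : (↥(W₁.map L.subtype ⊔ W₂.map L.subtype) →* ℂˣ) → (G → ℂ)}

section Defs

variable (W₁ W₂)

/-- The non-principal characters of `W` trivial on `W₂`. -/
noncomputable def rowSet : Finset (↥(W₁ ⊔ W₂) →* ℂˣ) :=
  univ.filter fun φ => TrivR φ ∧ φ ≠ 1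

/-- The non-principal characters of `W` trivial on `W₁`. -/
noncomputable def colSet : Finset (↥(W₁ ⊔ W₂) →* ℂˣ) :=
  univ.filter fun ψ => TrivL ψ ∧ ψ ≠ 1

/-- The sum of the members of the first row of the grid. -/
noncomputable def rowSum (χ : (↥(W₁.map L.subtype ⊔ W₂.map L.subtype) →* ℂˣ) → (G → ℂ)) :
    G → ℂ :=
  ∑ φ ∈ rowSet W₁ W₂, PF4.eta χ φ

variable {W₁ W₂}

/-- The members of degree `[L : K]`. -/
noncomputable abbrev X (K : Subgroup L) : Finset (L → ℂ) := PF6.seqInd K ⁅K, K⁆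

/-- `β = Ind_K^L 1 - ζ₀`. -/
noncomputable def beta (K : Subgroup L) (ζ₀ : L → ℂ) : L → ℂ :=
  Cfsg.indFun K (fun _ => (1 : ℂ)) - ζ₀

/-- `γ = τ β`. -/
noncomputable def gam (A : Set G) (R : G → Subgroup G) (K : Subgroup L) (ζ₀ : L → ℂ) : G → ℂ :=
  Cfsg.dadeIsometry A L R (beta K ζ₀)

/-- A signed irreducible behaving on `X` as the image of `ζ₀` under a coherent extension. -/
structure Pivot (A : Set G) (R : G → Subgroup G) (K : Subgroup L)
    (χ : (↥(W₁.map L.subtype ⊔ W₂.map L.subtype) →* ℂˣ) → (G → ℂ)) (ζ₀ : L → ℂ) (φ₀ : G → ℂ) :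
    Prop where
  mem : ζ₀ ∈ X K
  gen : Cfsg.IsGeneralizedCharacter G φ₀
  norm : Cfsg.classInner φ₀ φ₀ = 1
  orth : ∀ ω, Cfsg.classInner φ₀ (PF4.eta χ ω) = 0
  key : ∀ a ∈ X K, Cfsg.classInner (Cfsg.dadeIsometry A L R (a - ζ₀)) φ₀ =
    Cfsg.classInner a ζ₀ - 1

/-- `γ = 1 - φ₀ + ∑ η`, the sum over the first row. -/
def Exact (A : Set G) (R : G → Subgroup G) (K : Subgroup L)
    (χ : (↥(W₁.map L.subtype ⊔ W₂.map L.subtype) →* ℂˣ) → (G → ℂ)) (ζ₀ : L → ℂ) (φ₀ : G → ℂ) :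
    Prop :=
  gam A R K ζ₀ = (fun _ => (1 : ℂ)) - φ₀ + rowSum W₁ W₂ χ

/-- `⟨τ (a - d ζ₀), φ₀⟩ = ⟨a, ζ₀⟩ - d` for `a` of degree `[L : K] d`. -/
def Key (A : Set G) (R : G → Subgroup G) (K : Subgroup L) (ζ₀ : L → ℂ) (φ₀ : G → ℂ)
    (a : L → ℂ) : Prop :=
  ∀ d : ℕ, a 1 = ((K.index * d : ℕ) : ℂ) →
    Cfsg.classInner (Cfsg.dadeIsometry A L R (a - (d : ℤ) • ζ₀)) φ₀ = Cfsg.classInner a ζ₀ - d

end Defs

namespace Base

variable (b : Base K W₁ W₂ A R χ)

include b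

theorem K_normal : K.Normal := b.dadeHyp.prime.normal

theorem index_eq : K.index = Nat.card W₁ := b.dadeHyp.prime.index_eq

theorem three_le : 3 ≤ Nat.card W₁ := b.dadeHyp.card_facts.2.2.1

theorem derived_normal : (⁅K, K⁆ : Subgroup L).Normal :=
  have := b.K_normal
  inferInstance

theorem K_ne_bot : K ≠ ⊥ := fun e =>
  b.dadeHyp.prime.ne_bot₂ (le_bot_iff.1 (e ▸ b.dadeHyp.prime.le))

theorem derived_lt : ⁅K, K⁆ < K := by
  have := b.solvable
  have : Nontrivial K := K.nontrivial_iff_ne_bot.2 b.K_ne_bot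
  have h := Group.IsSolvable.commutator_lt_top_of_nontrivial (G := K)
  refine lt_of_le_of_ne (Subgroup.commutator_le_self K) fun e => h.ne ?_
  apply Subgroup.map_injective K.subtype_injective
  rw [Subgroup.map_subtype_commutator, e, ← MonoidHom.range_eq_map, Subgroup.range_subtype]

/-- A non-principal irreducible character of `K` is non-trivial on `K`. -/
theorem nt_of_ne_one {θ : K → ℂ} (hθ : Cfsg.IsIrrCharacter K θ) (hne : θ ≠ fun _ => 1) :
    ∃ n : K, (n : L) ∈ K ∧ θ n ≠ θ 1 := by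
  by_contra hc
  push Not at hc
  refine hne ?_
  have := Fintype.ofFinite K
  have hconst : ∀ n : K, θ n = θ 1 := fun n => hc n n.2
  obtain ⟨m, -, hm⟩ := CharBasic.IsIrr.exists_degree hθ
  have h1 := CharBasic.classInner_irr_self hθ
  rw [CharBasic.classInner_def] at h1
  simp only [hconst, hm, Complex.conj_natCast, sum_const, card_univ, nsmul_eq_mul] at h1
  rw [← Nat.card_eq_fintype_card, inv_mul_cancel_left₀ (by exact_mod_cast Nat.card_pos.ne')] at h1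
  have hm1 : m = 1 := by
    have : m * m = 1 := by exact_mod_cast h1
    exact Nat.eq_one_of_mul_eq_one_left this
  funext n
  rw [hconst, hm, hm1, Nat.cast_one]

theorem mem_bot_spec {S : Set (L → ℂ)} (hS : S ⊆ Cfsg.inducedIrrAbove K ⊥) {φ : L → ℂ}
    (hφ : φ ∈ S) : ∃ θ : K → ℂ, Cfsg.IsIrrCharacter K θ ∧
      (∃ n : K, (n : L) ∈ K ∧ θ n ≠ θ 1) ∧ φ = Cfsg.indFun K θ := by
  obtain ⟨θ, hθ, hne, -, rfl⟩ := hS hφ
  exact ⟨θ, hθ, b.nt_of_ne_one hθ hne, rfl⟩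

theorem X_nonempty : (X K).Nonempty := by
  have := b.K_normal
  have := b.derived_normal
  obtain ⟨θ, hθ, -⟩ := PF6.exists_linear K b.solvable b.derived_lt
  exact ⟨_, (PF6.mem_seqInd K).2 ⟨θ, hθ, rfl⟩⟩

theorem X_sub : (↑(X K) : Set (L → ℂ)) ⊆ Cfsg.inducedIrrAbove K ⊥ := by
  rw [← PF6.coe_seqInd]
  exact coe_subset.2 (PF6.seqInd_subset_bot K _)

/-- The degree of a member of `X`. -/
theorem X_one {a : L → ℂ} (ha : a ∈ X K) : a 1 = (Nat.card W₁ : ℂ) := by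
  obtain ⟨θ, hθ, rfl⟩ := (PF6.mem_seqInd K).1 ha
  have := Fintype.ofFinite K
  rw [CharInduce.indFun_one, b.index_eq, PF9.degree_one_of_commutator_mem θ.2 fun x y =>
    ((PF6.mem_thetas K).1 hθ).2 _ (by
      push_cast
      exact Subgroup.commutator_mem_commutator x.2 y.2), mul_one]

theorem red_one_eq : b.dadeHyp.prime.red 1 = Cfsg.indFun K (fun _ => (1 : ℂ)) := by
  rw [PF4.Hyp.red, b.dadeHyp.prime.theta_one]

/-- Members of `X` are irreducible and distinct from every `μ`. -/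
theorem X_irr {a : L → ℂ} (ha : a ∈ X K) :
    Cfsg.IsIrrCharacter L a ∧ ∀ ω, a ≠ b.dadeHyp.prime.mu ω := by
  obtain ⟨θ, hθ, rfl⟩ := (PF6.mem_seqInd K).1 ha
  obtain ⟨hne, hker⟩ := (PF6.mem_thetas K).1 hθ
  rcases b.dadeHyp.prime.ind_cases (N := K) θ.2 (b.nt_of_ne_one θ.2 hne) with h | ⟨ψ, hL, hR, e⟩
  · exact h
  exfalso
  have := b.K_normal
  have := Fintype.ofFinite K
  have hnt : ∃ w : ↥(W₁ ⊔ W₂), (w : L) ∈ W₂ ∧ ψ w ≠ 1 := by
    unfold TrivR at hR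
    push Not at hR
    exact hR
  obtain ⟨n, hn, hne'⟩ := b.dadeHyp.prime.theta_nt b.W₂_le hnt
  obtain ⟨x, hx⟩ := PF6.exists_conj_of_indFun_eq K θ.2 (b.dadeHyp.prime.theta_irr ψ)
    (by rw [e]; rfl)
  refine hne' ?_
  rw [hx]
  show (θ : K → ℂ) _ = (θ : K → ℂ) _
  have := b.derived_normal
  rw [hker _ (Subgroup.Normal.conj_mem inferInstance _ hn x)]
  exact congrArg (θ : K → ℂ) (Subtype.ext (by simp))

theorem X_vanish {a : L → ℂ} (ha : a ∈ X K) {g : L} (hg : g ∉ K) : a g = 0 := by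
  have := b.K_normal
  obtain ⟨θ, -, rfl⟩ := (PF6.mem_seqInd K).1 ha
  exact CharInduce.indFun_eq_zero_of_normal K _ hg

theorem X_conj {a : L → ℂ} (ha : a ∈ X K) : Cfsg.conjFun a ∈ X K := PF6.seqInd_conj K ha

theorem X_conj_ne {a : L → ℂ} (ha : a ∈ X K) : Cfsg.conjFun a ≠ a := by
  intro e
  obtain ⟨hi, hne⟩ := b.X_irr ha
  exact hne 1 ((CharInduce.eq_one_of_real_of_odd b.odd hi fun g => congrFun e g).trans
    b.dadeHyp.prime.mu_one.1.symm)

theorem two_le_card_X : 2 ≤ (X K).card := by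
  obtain ⟨a, ha⟩ := b.X_nonempty
  rw [← card_pair (b.X_conj_ne ha).symm]
  exact card_le_card (by simp [insert_subset_iff, ha, b.X_conj ha])

theorem X_orth {a c : L → ℂ} (ha : a ∈ X K) (hc : c ∈ X K) :
    Cfsg.classInner a c = if a = c then 1 else 0 := by
  split_ifs with h
  · subst h; exact CharBasic.classInner_irr_self (b.X_irr ha).1
  · exact CharBasic.classInner_irr_of_ne (b.X_irr ha).1 (b.X_irr hc).1 h

theorem X_orth_mu {a : L → ℂ} (ha : a ∈ X K) (ω : ↥(W₁ ⊔ W₂) →* ℂˣ) :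
    Cfsg.classInner a (b.dadeHyp.prime.mu ω) = 0 ∧
      Cfsg.classInner (b.dadeHyp.prime.mu ω) a = 0 :=
  ⟨CharBasic.classInner_irr_of_ne (b.X_irr ha).1 (b.dadeHyp.prime.mu_irr ω) ((b.X_irr ha).2 ω),
    CharBasic.classInner_irr_of_ne (b.dadeHyp.prime.mu_irr ω) (b.X_irr ha).1
      ((b.X_irr ha).2 ω).symm⟩

theorem X_orth_red {a : L → ℂ} (ha : a ∈ X K) (ω : ↥(W₁ ⊔ W₂) →* ℂˣ) :
    Cfsg.classInner a (b.dadeHyp.prime.red ω) = 0 ∧
      Cfsg.classInner (b.dadeHyp.prime.red ω) a = 0 := by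
  rw [b.dadeHyp.prime.red_eq_sum, CharBasic.classInner_sum_left, CharBasic.classInner_sum_right]
  exact ⟨sum_eq_zero fun φ _ => (b.X_orth_mu ha _).1, sum_eq_zero fun φ _ => (b.X_orth_mu ha _).2⟩

theorem mem_A_of_mem_K {g : L} (hg : g ∈ K) (h1 : g ≠ 1) : (g : G) ∈ A :=
  b.supp.mem g hg h1 g hg h1 rfl

/-- Functions vanishing outside `K ∖ {1}` vanish outside `A`. -/
theorem vanish_of_supp {f : L → ℂ} (hf : ∀ g : L, g ∉ K ∨ g = 1 → f g = 0) (g : L)
    (hg : (g : G) ∉ A) : f g = 0 :=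
  hf g (or_iff_not_imp_left.2 fun h => not_not.1 fun h1 => hg (b.mem_A_of_mem_K (not_not.1 h) h1))

end Base

end Cfsg.Agent.OddOrder.PF10
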