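import Cfsg.Agent.OddOrder.PF10.Grid

/-!
# Peterfalvi section 10: when `γ = 1 - φ₀ + ∑ η`

`exists_exact_of_cols`: zero column sums suffice; `exists_exact_of_lt`: so does `|W₁| < |W₂|`.
-/

set_option autoImplicit false
set_option linter.unusedSectionVars false

open scoped ComplexConjugate

namespace Cfsg.Agent.OddOrder.PF10

open Cfsg.Agent H43 Finset
open scoped Classical

universe u

variable {G : Type u} [Group G] [Fintype G] {L : Subgroup G} [Fintype L] {K W₁ W₂ : Subgroup L}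
  {A : Set G} {R : G → Subgroup G}
  {χ : (↥(W₁.map L.subtype ⊔ W₂.map L.subtype) →* ℂˣ) → (G → ℂ)}

/-- The sum of the coefficients of `f` along the column of `ψ`. -/
noncomputable def colSum (f : G → ℂ)
    (χ : (↥(W₁.map L.subtype ⊔ W₂.map L.subtype) →* ℂˣ) → (G → ℂ))
    (ψ : ↥(W₁ ⊔ W₂) →* ℂˣ) : ℂ :=
  ∑ φ ∈ univ.filter (fun φ : ↥(W₁ ⊔ W₂) →* ℂˣ => TrivR φ),
    Cfsg.classInner f (PF4.eta χ (φ * ψ))

namespace Base

variable (b : Base K W₁ W₂ A R χ)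

include b

theorem colSet_nonempty : (colSet W₁ W₂).Nonempty := by
  have h := b.card_colSet
  have := b.dadeHyp.card_facts.2.2.2
  exact card_pos.1 (by omega)

theorem gam_V {ζ₀ : L → ℂ} (hζ : ζ₀ ∈ X K) (w : ↥(W₁ ⊔ W₂)) (h1 : (w : L) ∉ W₁)
    (h2 : (w : L) ∉ W₂) : gam A R K ζ₀ ((w : L) : G) = 0 :=
  b.dade_vanish_V (gen_isClassFunction (b.gen_beta hζ)) (b.supp_beta hζ) w h1 h2

theorem inner_beta_diff {ζ₀ a : L → ℂ} (hζ : ζ₀ ∈ X K) (ha : a ∈ X K) :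
    Cfsg.classInner (beta K ζ₀) (a - ζ₀) = if a = ζ₀ then 0 else 1 := by
  simp only [beta, CharBasic.classInner_sub_left, CharBasic.classInner_sub_right,
    (b.inner_indOne_X ha).1, (b.inner_indOne_X hζ).1, b.X_orth hζ ha, b.X_orth hζ hζ, if_pos,
    eq_comm (a := ζ₀) (b := a)]
  split_ifs <;> ring

theorem inner_gam_phi {ζ₀ : L → ℂ} {φ₀ : G → ℂ} (hp : Pivot A R K χ ζ₀ φ₀) {a : L → ℂ}
    (ha : a ∈ X K) :
    Cfsg.classInner (gam A R K ζ₀) (b.phi ζ₀ φ₀ a) =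
      Cfsg.classInner (gam A R K ζ₀) φ₀ + if a = ζ₀ then 0 else 1 := by
  rw [phi, CharBasic.classInner_add_right,
    b.inner_gam hp.mem (gen_sub (b.gen_X ha) (b.gen_X hp.mem)) (b.diff_A ha hp.mem),
    b.inner_beta_diff hp.mem ha]

/-- A pivot may be moved to the conjugate member. -/
theorem pivot_swap {ζ₀ : L → ℂ} {φ₀ : G → ℂ} (hp : Pivot A R K χ ζ₀ φ₀) {z : L → ℂ}
    (hz : z ∈ X K) (hne : z ≠ ζ₀) (hX : ∀ a ∈ X K, a = ζ₀ ∨ a = z) :
    Pivot A R K χ ζ₀ (-b.phi ζ₀ φ₀ z) := by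
  have hgen : Cfsg.IsGeneralizedCharacter G (b.phi ζ₀ φ₀ z) :=
    gen_add hp.gen (gen_dade b.dadeHyp.dade (gen_sub (b.gen_X hz) (b.gen_X hp.mem))
      (b.diff_A hz hp.mem))
  refine ⟨hp.mem, gen_neg hgen, ?_, fun ω => ?_, fun a ha => ?_⟩
  · rw [CharBasic.classInner_neg_left, CharBasic.classInner_neg_right, neg_neg,
      b.phi_inner hp hz hz, if_pos rfl]
  · rw [CharBasic.classInner_neg_left, b.phi_orth_eta hp hz, neg_zero]
  · rw [CharBasic.classInner_neg_right,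
      show Cfsg.dadeIsometry A L R (a - ζ₀) = b.phi ζ₀ φ₀ a - b.phi ζ₀ φ₀ ζ₀ by
        rw [b.phi_self hp, phi]; abel,
      CharBasic.classInner_sub_left, b.phi_inner hp ha hz, b.phi_inner hp hp.mem hz,
      b.X_orth ha hp.mem, if_neg (Ne.symm hne)]
    rcases hX a ha with rfl | rfl
    · simp [Ne.symm hne]
    · simp [hne]

/-- From the vanishing of the grid part to exactness. -/
theorem exists_exact_aux {ζ₀ : L → ℂ} {φ₀ : G → ℂ} (hp : Pivot A R K χ ζ₀ φ₀)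
    (hconc : ∀ (c : (↥(W₁ ⊔ W₂) →* ℂˣ) → ℤ) (_ : ∀ ω, Cfsg.classInner (gam A R K ζ₀) (PF4.eta χ ω) = c ω)
      (R₀ : ℤ), 0 ≤ R₀ →
      ∑ φ ∈ rowSet W₁ W₂, (1 + (c φ - 1)) ^ 2 + ∑ ψ ∈ colSet W₁ W₂, c ψ ^ 2 +
        ∑ ψ ∈ colSet W₁ W₂, ∑ φ ∈ rowSet W₁ W₂, ((c φ - 1) + c ψ) ^ 2 + R₀
          ≤ (rowSet W₁ W₂).card →
      (∀ φ ∈ rowSet W₁ W₂, c φ - 1 = 0) ∧ (∀ ψ ∈ colSet W₁ W₂, c ψ = 0) ∧ R₀ = 0) :
    ∃ φ₀', Pivot A R K χ ζ₀ φ₀' ∧ Exact A R K χ ζ₀ φ₀' := by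
  set γ := gam A R K ζ₀ with hγ
  have hgen := b.gen_gam hp.mem
  obtain ⟨hN, hone⟩ := b.gam_norm hp.mem
  choose c hc using fun ω => gen_inner_int hgen (PF4.DadeHyp.eta_signed b.family ω).gen
  obtain ⟨k, hk⟩ := gen_inner_int hgen hp.gen
  set x : (L → ℂ) → ℤ := fun a => k + if a = ζ₀ then 0 else 1 with hx
  have hxe : ∀ a ∈ X K, Cfsg.classInner γ (b.phi ζ₀ φ₀ a) = x a := fun a ha => by
    rw [hγ, b.inner_gam_phi hp ha, ← hγ, hk, hx]
    split_ifs with h <;> simp [h]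
  have hN' : Cfsg.classInner γ γ = (((Nat.card W₁ : ℕ) + 1 : ℤ) : ℂ) := by rw [hN]; norm_cast
  obtain ⟨hle, heq⟩ := b.budget hp hc hxe hN'
  have hc1 : c 1 = 1 := by
    have := hc 1
    rw [b.dadeHyp.eta_one b.family, hone] at this
    exact_mod_cast this.symm
  have hrel : ∀ φ ∈ rowSet W₁ W₂, ∀ ψ ∈ colSet W₁ W₂, c (φ * ψ) = (c φ - 1) + c ψ := by
    intro φ hφ ψ hψ
    have h := b.eta_vanish_rel (gen_isClassFunction hgen) (b.gam_V hp.mem) hφ hψ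
    rw [hc, hc, hc, hc, hc1] at h
    have : c (φ * ψ) = c φ + c ψ - 1 := by exact_mod_cast h
    linarith
  set F : ℤ := ((X K).card : ℤ) with hF
  set bb : ℤ := k + 1 with hbb
  have hxsum : ∑ a ∈ X K, x a ^ 2 = (bb - 1) ^ 2 + (F - 1) * bb ^ 2 := by
    rw [← add_sum_erase _ _ hp.mem, sum_congr rfl (g := fun _ => bb ^ 2) fun a ha => by
      rw [hx]; simp [(mem_erase.1 ha).1, hbb], sum_const, card_erase_of_mem hp.mem, nsmul_eq_mul,
      Nat.cast_sub (card_pos.2 b.X_nonempty), hx]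
    simp [hbb, hF]
  have hF2 : 2 ≤ F := by rw [hF]; exact_mod_cast b.two_le_card_X
  have hR0 : 0 ≤ F * bb ^ 2 - 2 * bb := by
    rcases le_or_gt bb 0 with h | h
    · nlinarith [sq_nonneg bb]
    · nlinarith
  have hsplit : ∑ ω, c ω ^ 2 = 1 + ∑ φ ∈ rowSet W₁ W₂, (1 + (c φ - 1)) ^ 2 +
      (∑ ψ ∈ colSet W₁ W₂, c ψ ^ 2 +
        ∑ ψ ∈ colSet W₁ W₂, ∑ φ ∈ rowSet W₁ W₂, ((c φ - 1) + c ψ) ^ 2) := by
    rw [b.sum_univ_eq fun ω => c ω ^ 2, hc1, one_pow]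
    congr 2
    · exact sum_congr rfl fun φ _ => by ring
    · exact sum_congr rfl fun ψ hψ => sum_congr rfl fun φ hφ => by rw [hrel φ hφ ψ hψ]
  have hcard : ((Nat.card W₁ : ℕ) : ℤ) = (rowSet W₁ W₂).card + 1 := by
    exact_mod_cast b.card_rowSet.symm
  obtain ⟨he0, hg0, hR⟩ := hconc c hc (F * bb ^ 2 - 2 * bb) hR0 (by
    rw [hsplit, hxsum, hcard] at hle
    linarith)
  have hc_row : ∀ φ ∈ rowSet W₁ W₂, c φ = 1 := fun φ hφ => by linarith [he0 φ hφ]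
  have htot : ∑ ω, c ω ^ 2 + ∑ a ∈ X K, x a ^ 2 = ((Nat.card W₁ : ℕ) : ℤ) + 1 := by
    rw [hsplit, hxsum, hcard, sum_congr rfl fun φ hφ => show (1 + (c φ - 1)) ^ 2 = 1 by
      rw [he0 φ hφ]; ring, sum_eq_zero fun ψ hψ => show c ψ ^ 2 = 0 by rw [hg0 ψ hψ]; ring,
      sum_eq_zero fun ψ hψ => sum_eq_zero fun φ hφ => show ((c φ - 1) + c ψ) ^ 2 = 0 by
        rw [he0 φ hφ, hg0 ψ hψ]; ring]
    simp only [sum_const, nsmul_eq_mul, mul_one]
    linarith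
  have hexp := heq htot
  have hgrid : ∑ ω, (c ω : ℂ) • PF4.eta χ ω = (fun _ => (1 : ℂ)) + rowSum W₁ W₂ χ := by
    rw [b.sum_univ_eq fun ω => (c ω : ℂ) • PF4.eta χ ω, hc1, Int.cast_one, one_smul,
      b.dadeHyp.eta_one b.family, rowSum]
    rw [sum_eq_zero (s := colSet W₁ W₂) fun ψ hψ => by rw [hg0 ψ hψ, Int.cast_zero, zero_smul],
      sum_eq_zero (s := colSet W₁ W₂) fun ψ hψ => sum_eq_zero fun φ hφ => by
        rw [hrel φ hφ ψ hψ, he0 φ hφ, hg0 ψ hψ, add_zero, Int.cast_zero, zero_smul],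
      add_zero, add_zero]
    exact congrArg _ (sum_congr rfl fun φ hφ => by rw [hc_row φ hφ, Int.cast_one, one_smul])
  by_cases h0 : bb = 0
  · refine ⟨φ₀, hp, ?_⟩
    rw [Exact, hexp, hgrid, ← add_sum_erase _ _ hp.mem, sum_eq_zero fun a ha => by
      rw [hx]; simp [(mem_erase.1 ha).1, show k + 1 = 0 from h0 ▸ hbb ▸ rfl], add_zero, b.phi_self hp]
    have hk1 : k = -1 := by linarith
    simp [hx, hk1]
    abel
  · have hFb : F * bb = 2 := mul_right_cancel₀ h0 (by linarith)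
    have hbb1 : bb = 1 := by
      rcases le_or_gt bb 0 with h | h
      · nlinarith
      · nlinarith
    have hF' : (X K).card = 2 := by
      have : F = 2 := by rwa [hbb1, mul_one] at hFb
      rw [hF] at this
      exact_mod_cast this
    obtain ⟨z, hz, hzne⟩ := exists_mem_ne (by omega : 1 < (X K).card) ζ₀
    have hXeq : X K = {ζ₀, z} := (eq_of_subset_of_card_le
      (by simp [insert_subset_iff, hp.mem, hz]) (by rw [hF', card_pair hzne.symm])).symm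
    refine ⟨_, b.pivot_swap hp hz hzne (fun a ha => by rw [hXeq] at ha; simpa using ha), ?_⟩
    have hk0 : k = 0 := by linarith
    rw [Exact, hexp, hgrid, hXeq, sum_pair hzne.symm, hx]
    simp [hk0, hzne]
    abel

/-- Zero column sums give exactness. -/
theorem exists_exact_of_cols {ζ₀ : L → ℂ} {φ₀ : G → ℂ} (hp : Pivot A R K χ ζ₀ φ₀)
    (hcol : ∀ ψ ∈ colSet W₁ W₂, colSum (gam A R K ζ₀) χ ψ = 0) :
    ∃ φ₀', Pivot A R K χ ζ₀ φ₀' ∧ Exact A R K χ ζ₀ φ₀' := by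
  refine b.exists_exact_aux hp fun c hc R₀ hR₀ hb => ?_
  refine exact_of_cols _ _ (fun φ => c φ - 1) c b.even_card_rowSet ?_ b.colSet_nonempty ?_ hR₀ hb
  · refine b.even_rowSet_sum _ fun φ _ => ?_
    have h := b.gam_sym hp.mem φ
    rw [hc, hc] at h
    rw [Int.cast_injective (α := ℂ) h]
  · intro ψ hψ
    have h := hcol ψ hψ
    rw [colSum, b.filter_trivR, sum_insert fun h => (b.mem_rowSet.1 h).2 rfl,
      show (1 : ↥(W₁ ⊔ W₂) →* ℂˣ) * ψ = ψ from by ext; simp, hc] at h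
    have hc1 : c 1 = 1 := by
      have := hc 1
      rw [b.dadeHyp.eta_one b.family, (b.gam_norm hp.mem).2] at this
      exact_mod_cast this.symm
    apply Int.cast_injective (α := ℂ)
    push_cast
    refine Eq.trans ?_ h
    congr 1
    refine sum_congr rfl fun φ hφ => ?_
    rw [b.eta_vanish_rel (gen_isClassFunction (b.gen_gam hp.mem)) (b.gam_V hp.mem) hφ hψ, hc, hc, hc,
      hc1]
    push_cast
    ring

/-- A complement smaller than `W₂` gives exactness. -/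
theorem exists_exact_of_lt {ζ₀ : L → ℂ} {φ₀ : G → ℂ} (hp : Pivot A R K χ ζ₀ φ₀)
    (hlt : Nat.card W₁ < Nat.card W₂) :
    ∃ φ₀', Pivot A R K χ ζ₀ φ₀' ∧ Exact A R K χ ζ₀ φ₀' := by
  refine b.exists_exact_aux hp fun c _ R₀ hR₀ hb => ?_
  refine exact_of_many _ _ (fun φ => c φ - 1) c ?_ hR₀ hb
  have h1 := b.card_rowSet
  have h2 := b.card_colSet
  omega

end Base

end Cfsg.Agent.OddOrder.PF10
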