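import Mathlib.Algebra.Order.Chebyshev
import Mathlib.Algebra.BigOperators.Group.Finset.Piecewise
import Mathlib.Data.ZMod.Basic
import Mathlib.Tactic.Linarith

/-!
# Integer coefficient lemmas for the image of `Ind_K^L 1 - ζ₀` on the cyclic TI grid

`e φ = c φ - 1` on the non-principal characters of the complement, `g ψ = c ψ` on those of `W₂`;
the coefficient at `φ ψ` is `e φ + g ψ`.
-/

set_option autoImplicit false

namespace Cfsg.Agent.OddOrder.PF10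

open Finset

variable {α β : Type*}

/-- A sum invariant under a fixed-point-free involution is even. -/
theorem even_sum_of_involution (s : Finset α) (ι : α → α) (h1 : ∀ a ∈ s, ι a ∈ s)
    (h2 : ∀ a ∈ s, ι (ι a) = a) (h3 : ∀ a ∈ s, ι a ≠ a) (f : α → ℤ)
    (hf : ∀ a ∈ s, f (ι a) = f a) : Even (∑ a ∈ s, f a) := by
  rw [← ZMod.intCast_eq_zero_iff_even, Int.cast_sum]
  refine Finset.sum_involution (fun a _ => ι a) (fun a ha => ?_) (fun a ha _ => h3 a ha)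
    (fun a ha => h1 a ha) (fun a ha => h2 a ha)
  rw [hf a ha, CharTwo.add_self_eq_zero]

/-- Symmetric integers with sum of squares at most one vanish. -/
theorem eq_zero_of_involution (s : Finset α) (ι : α → α) (h1 : ∀ a ∈ s, ι a ∈ s)
    (h3 : ∀ a ∈ s, ι a ≠ a) (f : α → ℤ) (hf : ∀ a ∈ s, f (ι a) = f a)
    (hb : ∑ a ∈ s, f a ^ 2 ≤ 1) : ∀ a ∈ s, f a = 0 := by
  classical
  intro a ha
  by_contra hne
  have h := (sum_le_sum_of_subset_of_nonneg (s := {a, ι a}) (t := s)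
    (by simp [insert_subset_iff, ha, h1 a ha]) fun i _ _ => sq_nonneg (f i)).trans hb
  rw [sum_pair (h3 a ha).symm, hf a ha] at h
  have := (sq_pos_iff.2 hne : (0 : ℤ) < f a ^ 2)
  linarith

/-- Zero column sums and a small norm give the natural row. -/
theorem exact_of_cols (P : Finset α) (Q : Finset β) (e : α → ℤ) (g : β → ℤ)
    (hP : Even P.card) (he : Even (∑ φ ∈ P, e φ)) (hQ : Q.Nonempty)
    (hcol : ∀ ψ ∈ Q, g ψ + ∑ φ ∈ P, (e φ + g ψ) = 0) {R : ℤ} (hR : 0 ≤ R)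
    (hb : ∑ φ ∈ P, (1 + e φ) ^ 2 + ∑ ψ ∈ Q, g ψ ^ 2 + ∑ ψ ∈ Q, ∑ φ ∈ P, (e φ + g ψ) ^ 2 + R
      ≤ P.card) :
    (∀ φ ∈ P, e φ = 0) ∧ (∀ ψ ∈ Q, g ψ = 0) ∧ R = 0 := by
  set n : ℤ := (P.card : ℤ) with hn
  have hcol' : ∀ ψ ∈ Q, (n + 1) * g ψ = -∑ φ ∈ P, e φ := fun ψ hψ => by
    have h := hcol ψ hψ
    rw [sum_add_distrib, sum_const, nsmul_eq_mul] at h
    linarith
  obtain ⟨ψ₀, hψ₀⟩ := hQ
  set a := g ψ₀ with ha
  set E := ∑ φ ∈ P, e φ with hE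
  have hEa : E = -((n + 1) * a) := by linarith [hcol' ψ₀ hψ₀]
  have hexp : ∑ φ ∈ P, (1 + e φ) ^ 2 = n + 2 * E + ∑ φ ∈ P, e φ ^ 2 := by
    rw [hE, sum_congr rfl fun φ _ => show (1 + e φ) ^ 2 = 1 + 2 * e φ + e φ ^ 2 by ring,
      sum_add_distrib, sum_add_distrib, ← mul_sum, sum_const, nsmul_eq_mul, mul_one]
  have h1 : 0 ≤ ∑ ψ ∈ Q, g ψ ^ 2 := sum_nonneg fun _ _ => sq_nonneg _
  have h2 : 0 ≤ ∑ ψ ∈ Q, ∑ φ ∈ P, (e φ + g ψ) ^ 2 :=
    sum_nonneg fun _ _ => sum_nonneg fun _ _ => sq_nonneg _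
  have h3 : 0 ≤ ∑ φ ∈ P, e φ ^ 2 := sum_nonneg fun _ _ => sq_nonneg _
  have hn0 : 0 ≤ n := Int.natCast_nonneg _
  have hsq : ∑ φ ∈ P, e φ ^ 2 ≤ 2 * ((n + 1) * a) := by
    rw [hexp, hEa] at hb; linarith
  have hcs : E ^ 2 ≤ n * ∑ φ ∈ P, e φ ^ 2 := sq_sum_le_card_mul_sum_sq
  have ha0 : a = 0 := by
    obtain ⟨k, hk⟩ := hP
    have hnk : n = 2 * k := by rw [hn, hk]; push_cast; ring
    have hae : Even a := by
      obtain ⟨j, hj⟩ := he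
      refine ⟨-j - k * a, ?_⟩
      rw [hEa, hnk] at hj
      linarith
    have hanonneg : 0 ≤ a := by
      by_contra hneg
      nlinarith [mul_neg_of_pos_of_neg (show (0 : ℤ) < n + 1 by linarith) (not_le.1 hneg)]
    rcases eq_or_lt_of_le hanonneg with h | h
    · exact h.symm
    exfalso
    obtain ⟨i, hi⟩ := hae
    have ha2 : 2 ≤ a := by omega
    have : ((n + 1) * a) ^ 2 ≤ n * (2 * ((n + 1) * a)) := by
      have := mul_le_mul_of_nonneg_left hsq hn0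
      rw [hEa, neg_sq] at hcs
      linarith
    nlinarith [mul_le_mul_of_nonneg_left ha2 (show (0 : ℤ) ≤ n + 1 by linarith)]
  have hz : ∑ φ ∈ P, e φ ^ 2 = 0 := le_antisymm (by simpa [ha0] using hsq) h3
  have he0 : ∀ φ ∈ P, e φ = 0 := fun φ hφ =>
    pow_eq_zero_iff two_ne_zero |>.1 ((sum_eq_zero_iff_of_nonneg fun _ _ => sq_nonneg _).1 hz φ hφ)
  refine ⟨he0, fun ψ hψ => ?_, ?_⟩
  · have h := hcol' ψ hψ
    rw [hEa, ha0] at h
    simp only [mul_zero, neg_zero] at h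
    exact (mul_eq_zero.1 h).resolve_left (by linarith)
  · rw [hexp, hz, hEa, ha0] at hb
    linarith

/-- A norm below the number of columns gives the natural row. -/
theorem exact_of_many (P : Finset α) (Q : Finset β) (e : α → ℤ) (g : β → ℤ)
    (hlt : P.card < Q.card) {R : ℤ} (hR : 0 ≤ R)
    (hb : ∑ φ ∈ P, (1 + e φ) ^ 2 + ∑ ψ ∈ Q, g ψ ^ 2 + ∑ ψ ∈ Q, ∑ φ ∈ P, (e φ + g ψ) ^ 2 + R
      ≤ P.card) :
    (∀ φ ∈ P, e φ = 0) ∧ (∀ ψ ∈ Q, g ψ = 0) ∧ R = 0 := by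
  have h0 : 0 ≤ ∑ φ ∈ P, (1 + e φ) ^ 2 := sum_nonneg fun _ _ => sq_nonneg _
  have he0 : ∀ φ ∈ P, e φ = 0 := by
    intro φ₀ hφ₀
    by_contra hne
    have key : ∀ ψ ∈ Q, (1 : ℤ) ≤ g ψ ^ 2 + ∑ φ ∈ P, (e φ + g ψ) ^ 2 := by
      intro ψ _
      by_cases hg : g ψ = 0
      · refine le_trans ?_ (le_add_of_nonneg_left (sq_nonneg _))
        refine le_trans ?_ (single_le_sum (fun φ _ => sq_nonneg (e φ + g ψ)) hφ₀)
        rw [hg, add_zero]
        exact Int.add_one_le_iff.2 (sq_pos_iff.2 hne)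
      · exact le_trans (Int.add_one_le_iff.2 (sq_pos_iff.2 hg))
          (le_add_of_nonneg_right (sum_nonneg fun _ _ => sq_nonneg _))
    have := sum_le_sum key
    rw [sum_const, nsmul_eq_mul, mul_one, sum_add_distrib] at this
    have hlt' : (P.card : ℤ) < Q.card := by exact_mod_cast hlt
    linarith
  have e1 : ∑ φ ∈ P, (1 + e φ) ^ 2 = (P.card : ℤ) := by
    rw [sum_congr rfl fun φ hφ => show (1 + e φ) ^ 2 = 1 by rw [he0 φ hφ]; ring, sum_const,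
      nsmul_eq_mul, mul_one]
  have h2 : 0 ≤ ∑ ψ ∈ Q, ∑ φ ∈ P, (e φ + g ψ) ^ 2 :=
    sum_nonneg fun _ _ => sum_nonneg fun _ _ => sq_nonneg _
  have h1 : 0 ≤ ∑ ψ ∈ Q, g ψ ^ 2 := sum_nonneg fun _ _ => sq_nonneg _
  have hg : ∑ ψ ∈ Q, g ψ ^ 2 = 0 := by linarith
  refine ⟨he0, fun ψ hψ => ?_, by linarith⟩
  exact pow_eq_zero_iff two_ne_zero |>.1
    ((sum_eq_zero_iff_of_nonneg fun _ _ => sq_nonneg _).1 hg ψ hψ)

end Cfsg.Agent.OddOrder.PF10
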