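import Cfsg.Agent.OddOrder.PF10.Base
import Cfsg.Agent.OddOrder.PF9.Combinatorics
import Cfsg.Agent.OddOrder.PF10.Rows

/-!
# Peterfalvi section 10: coefficients on the grid and on the family of a pivot
-/

set_option autoImplicit false
set_option linter.unusedSectionVars false

open scoped ComplexConjugate

namespace Cfsg.Agent.OddOrder.PF10

open Cfsg.Agent H43 Finset
open scoped Classical

universe u

variable {G : Type u} [Group G] [Fintype G] {L : Subgroup G} [Fintype L] {K W₁ W₂ : Subgroup L}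
  {A : Set G} {R : G → Subgroup G}
  {χ : (↥(W₁.map L.subtype ⊔ W₂.map L.subtype) →* ℂˣ) → (G → ℂ)}

theorem gen_dade (hD : Cfsg.DadeHypothesis A L R) {f : L → ℂ}
    (hf : Cfsg.IsGeneralizedCharacter L f) (hA : ∀ g : L, (g : G) ∉ A → f g = 0) :
    Cfsg.IsGeneralizedCharacter G (Cfsg.dadeIsometry A L R f) :=
  S1501.result A L R hD f hf hA

theorem inner_dade (hD : Cfsg.DadeHypothesis A L R) {f g : L → ℂ}
    (hf : Cfsg.IsClassFunction L f) (hfA : ∀ x : L, (x : G) ∉ A → f x = 0)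
    (hg : Cfsg.IsClassFunction L g) (hgA : ∀ x : L, (x : G) ∉ A → g x = 0) :
    Cfsg.classInner (Cfsg.dadeIsometry A L R f) (Cfsg.dadeIsometry A L R g) =
      Cfsg.classInner f g :=
  (S1500.result A L R hD f hf hfA).1 g hg hgA

/-- The Dade map preserves the inner product with the principal character. -/
theorem inner_dade_one (hD : Cfsg.DadeHypothesis A L R) {f : L → ℂ}
    (hf : Cfsg.IsClassFunction L f) (hfA : ∀ x : L, (x : G) ∉ A → f x = 0) :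
    Cfsg.classInner (Cfsg.dadeIsometry A L R f) (fun _ => 1) = Cfsg.classInner f (fun _ => 1) := by
  rw [PF7.classInner_invDade hD hf hfA (fun _ _ => rfl)]
  refine PF3.classInner_congr_right fun x hx => ?_
  exact PF7.invDade_eq_of_eq_on (not_not.1 fun h => hx (hfA x h)) fun _ _ => rfl

theorem conjFun_dade (f : L → ℂ) :
    Cfsg.conjFun (Cfsg.dadeIsometry A L R f) = Cfsg.dadeIsometry A L R (Cfsg.conjFun f) := by
  funext g
  simp only [Cfsg.conjFun, Cfsg.dadeIsometry]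
  split_ifs <;> simp

/-- Coefficients of an integral combination with conjugate `f'`. -/
theorem inner_inv_of_orth (d : PF4.DadeHyp K W₁ W₂ A R)
    (hχ : Cfsg.IsCyclicTIFamily (W₁.map L.subtype) (W₂.map L.subtype) χ) {f : G → ℂ}
    (hf : Cfsg.IsGeneralizedCharacter G f) {ω : ↥(W₁ ⊔ W₂) →* ℂˣ}
    (h : Cfsg.classInner (f - Cfsg.conjFun f) (PF4.eta χ ω) = 0) :
    Cfsg.classInner f (PF4.eta χ ω⁻¹) = Cfsg.classInner f (PF4.eta χ ω) := by
  obtain ⟨n, hn⟩ := gen_inner_int hf (PF4.DadeHyp.eta_signed hχ ω⁻¹).gen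
  have h1 : Cfsg.classInner (Cfsg.conjFun f) (PF4.eta χ ω) =
      conj (Cfsg.classInner f (PF4.eta χ ω⁻¹)) := by
    rw [d.eta_inv hχ, CharBasic.classInner_def, CharBasic.classInner_def, map_mul, map_inv₀,
      map_natCast, map_sum]
    refine congrArg _ (sum_congr rfl fun g _ => ?_)
    simp [Cfsg.conjFun, map_mul]
  rw [CharBasic.classInner_sub_left, sub_eq_zero] at h
  rw [h, h1, hn, map_intCast]

namespace Base

variable (b : Base K W₁ W₂ A R χ)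

include b

theorem pair : Cfsg.IsSelfNormalizingCyclic W₁ W₂ := b.dadeHyp.prime.pair

theorem mem_rowSet {φ : ↥(W₁ ⊔ W₂) →* ℂˣ} : φ ∈ rowSet W₁ W₂ ↔ TrivR φ ∧ φ ≠ 1 := by
  simp [rowSet]

theorem rowSet_inv {φ : ↥(W₁ ⊔ W₂) →* ℂˣ} (h : φ ∈ rowSet W₁ W₂) : φ⁻¹ ∈ rowSet W₁ W₂ :=
  b.mem_rowSet.2 ⟨fun w hw => by rw [MonoidHom.inv_apply, (b.mem_rowSet.1 h).1 w hw, inv_one],
    fun e => (b.mem_rowSet.1 h).2 (MonoidHom.ext fun w => inv_eq_one.1 (by
      simpa using DFunLike.congr_fun e w))⟩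

theorem rowSet_inv_ne {φ : ↥(W₁ ⊔ W₂) →* ℂˣ} (h : φ ∈ rowSet W₁ W₂) : φ⁻¹ ≠ φ :=
  b.dadeHyp.prime.inv_ne_self (b.mem_rowSet.1 h).2

theorem even_rowSet_sum (f : (↥(W₁ ⊔ W₂) →* ℂˣ) → ℤ)
    (hf : ∀ φ ∈ rowSet W₁ W₂, f φ⁻¹ = f φ) : Even (∑ φ ∈ rowSet W₁ W₂, f φ) :=
  even_sum_of_involution _ (·⁻¹) (fun _ h => b.rowSet_inv h) (fun φ _ => inv_inv φ)
    (fun _ h => b.rowSet_inv_ne h) f hf

theorem filter_trivR :
    univ.filter (fun φ : ↥(W₁ ⊔ W₂) →* ℂˣ => TrivR φ) = insert 1 (rowSet W₁ W₂) := by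
  ext φ
  by_cases h : φ = 1 <;> simp [rowSet, h, trivR_one]

theorem filter_trivL :
    univ.filter (fun ψ : ↥(W₁ ⊔ W₂) →* ℂˣ => TrivL ψ) = insert 1 (colSet W₁ W₂) := by
  ext ψ
  by_cases h : ψ = 1 <;> simp [colSet, h, trivL_one]

theorem card_rowSet : (rowSet W₁ W₂).card + 1 = Nat.card W₁ := by
  rw [← (PF3.card_trivR_trivL b.pair).1, Nat.card_eq_fintype_card, Fintype.card_subtype,
    b.filter_trivR, card_insert_of_notMem fun h => (b.mem_rowSet.1 h).2 rfl]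

theorem card_colSet : (colSet W₁ W₂).card + 1 = Nat.card W₂ := by
  rw [← (PF3.card_trivR_trivL b.pair).2, Nat.card_eq_fintype_card, Fintype.card_subtype,
    b.filter_trivL, card_insert_of_notMem (by simp [colSet])]

theorem even_card_rowSet : Even (rowSet W₁ W₂).card := by
  have h := b.even_rowSet_sum (fun _ => 1) fun _ _ => rfl
  simp only [sum_const, nsmul_eq_mul, mul_one] at h
  exact_mod_cast h

/-- A sum over all linear characters of `W`, by rows and columns. -/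
theorem sum_univ_eq {M : Type*} [AddCommMonoid M] (f : (↥(W₁ ⊔ W₂) →* ℂˣ) → M) :
    ∑ ω, f ω = f 1 + ∑ φ ∈ rowSet W₁ W₂, f φ +
      (∑ ψ ∈ colSet W₁ W₂, f ψ + ∑ ψ ∈ colSet W₁ W₂, ∑ φ ∈ rowSet W₁ W₂, f (φ * ψ)) := by
  have h : ∑ ω, f ω = ∑ ψ ∈ univ.filter (fun ψ : ↥(W₁ ⊔ W₂) →* ℂˣ => TrivL ψ),
      ∑ φ ∈ univ.filter (fun φ : ↥(W₁ ⊔ W₂) →* ℂˣ => TrivR φ), f (φ * ψ) := by
    rw [← sum_product' (f := fun ψ φ => f (φ * ψ))]
    refine (sum_bij (fun x _ => x.2 * x.1) (fun x _ => mem_univ _) (fun x hx y hy e => ?_)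
      (fun ω _ => ?_) fun x _ => rfl).symm
    · simp only [mem_product, mem_filter, mem_univ, true_and] at hx hy
      obtain ⟨e1, e2⟩ := factor_unique b.pair hx.2 hy.2 hx.1 hy.1 e
      exact Prod.ext e2 e1
    · obtain ⟨φ, ψ, hφ, hψ, rfl⟩ := exists_factor b.pair ω
      exact ⟨(ψ, φ), by simp [hφ, hψ], rfl⟩
  rw [h, b.filter_trivL, sum_insert (by simp [colSet]), b.filter_trivR]
  have hm : ∀ x : ↥(W₁ ⊔ W₂) →* ℂˣ, x * 1 = x := fun x => by ext; simp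
  have hm' : ∀ x : ↥(W₁ ⊔ W₂) →* ℂˣ, 1 * x = x := fun x => by ext; simp
  simp only [sum_insert (show (1 : ↥(W₁ ⊔ W₂) →* ℂˣ) ∉ rowSet W₁ W₂ by simp [rowSet]), hm, hm',
    sum_add_distrib]

theorem eta_vanish_rel {f : G → ℂ} (hf : Cfsg.IsClassFunction G f)
    (hV : ∀ w : ↥(W₁ ⊔ W₂), (w : L) ∉ W₁ → (w : L) ∉ W₂ → f ((w : L) : G) = 0)
    {φ ψ : ↥(W₁ ⊔ W₂) →* ℂˣ} (hφ : φ ∈ rowSet W₁ W₂) (hψ : ψ ∈ colSet W₁ W₂) :
    Cfsg.classInner f (PF4.eta χ (φ * ψ)) = Cfsg.classInner f (PF4.eta χ φ) +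
      Cfsg.classInner f (PF4.eta χ ψ) - Cfsg.classInner f (PF4.eta χ 1) :=
  b.dadeHyp.eta_relation b.family hf hV (b.mem_rowSet.1 hφ).1 (by simpa [colSet] using hψ : _ ∧ _).1

/-- `Ind_K^L 1` has norm `[L : K]` and inner product one with the principal character. -/
theorem inner_indOne :
    Cfsg.classInner (Cfsg.indFun K fun _ => (1 : ℂ)) (Cfsg.indFun K fun _ => (1 : ℂ)) =
      (Nat.card W₁ : ℂ) ∧
    Cfsg.classInner (Cfsg.indFun K fun _ => (1 : ℂ)) (fun _ => 1) = 1 := by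
  rw [← b.red_one_eq]
  refine ⟨b.dadeHyp.prime.classInner_red_self 1, ?_⟩
  have h := b.dadeHyp.prime.classInner_red_mu 1 1
  rw [if_pos fun w _ => rfl, b.dadeHyp.prime.mu_one.1] at h
  exact h

theorem gen_indOne : Cfsg.IsGeneralizedCharacter L (Cfsg.indFun K fun _ => (1 : ℂ)) :=
  CharInduce.IsGen.ind K (gen_of_irr CharBasic.isIrrCharacter_one)

theorem indOne_vanish {g : L} (hg : g ∉ K) : Cfsg.indFun K (fun _ => (1 : ℂ)) g = 0 :=
  have := b.K_normal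
  CharInduce.indFun_eq_zero_of_normal K _ hg

theorem inner_indOne_X {a : L → ℂ} (ha : a ∈ X K) :
    Cfsg.classInner (Cfsg.indFun K fun _ => (1 : ℂ)) a = 0 ∧
      Cfsg.classInner a (Cfsg.indFun K fun _ => (1 : ℂ)) = 0 := by
  rw [← b.red_one_eq]
  exact ⟨(b.X_orth_red ha 1).2, (b.X_orth_red ha 1).1⟩

theorem gen_X {a : L → ℂ} (ha : a ∈ X K) : Cfsg.IsGeneralizedCharacter L a :=
  gen_of_irr (b.X_irr ha).1

theorem supp_beta {ζ₀ : L → ℂ} (hζ : ζ₀ ∈ X K) (g : L) (hg : g ∉ K ∨ g = 1) :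
    beta K ζ₀ g = 0 := by
  rcases hg with h | rfl
  · simp [beta, b.indOne_vanish h, b.X_vanish hζ h]
  · simp [beta, CharInduce.indFun_one, b.X_one hζ, b.index_eq]

theorem gen_beta {ζ₀ : L → ℂ} (hζ : ζ₀ ∈ X K) : Cfsg.IsGeneralizedCharacter L (beta K ζ₀) :=
  gen_sub b.gen_indOne (b.gen_X hζ)

theorem beta_A {ζ₀ : L → ℂ} (hζ : ζ₀ ∈ X K) : ∀ g : L, (g : G) ∉ A → beta K ζ₀ g = 0 :=
  b.vanish_of_supp (b.supp_beta hζ)

theorem diff_A {a c : L → ℂ} (ha : a ∈ X K) (hc : c ∈ X K) :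
    ∀ g : L, (g : G) ∉ A → (a - c) g = 0 :=
  b.vanish_of_supp fun g hg => by
    rcases hg with h | rfl
    · simp [b.X_vanish ha h, b.X_vanish hc h]
    · simp [b.X_one ha, b.X_one hc]

theorem gen_gam {ζ₀ : L → ℂ} (hζ : ζ₀ ∈ X K) :
    Cfsg.IsGeneralizedCharacter G (gam A R K ζ₀) :=
  gen_dade b.dadeHyp.dade (b.gen_beta hζ) (b.beta_A hζ)

/-- Inner products with `γ` are those with `β`. -/
theorem inner_gam {ζ₀ : L → ℂ} (hζ : ζ₀ ∈ X K) {f : L → ℂ}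
    (hf : Cfsg.IsGeneralizedCharacter L f) (hfA : ∀ g : L, (g : G) ∉ A → f g = 0) :
    Cfsg.classInner (gam A R K ζ₀) (Cfsg.dadeIsometry A L R f) = Cfsg.classInner (beta K ζ₀) f :=
  inner_dade b.dadeHyp.dade (gen_isClassFunction (b.gen_beta hζ)) (b.beta_A hζ)
    (gen_isClassFunction hf) hfA

theorem gam_norm {ζ₀ : L → ℂ} (hζ : ζ₀ ∈ X K) :
    Cfsg.classInner (gam A R K ζ₀) (gam A R K ζ₀) = (Nat.card W₁ : ℂ) + 1 ∧
      Cfsg.classInner (gam A R K ζ₀) (fun _ => 1) = 1 := by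
  constructor
  · rw [show Cfsg.classInner (gam A R K ζ₀) (gam A R K ζ₀) =
      Cfsg.classInner (beta K ζ₀) (beta K ζ₀) from b.inner_gam hζ (b.gen_beta hζ) (b.beta_A hζ)]
    simp only [beta, CharBasic.classInner_sub_left, CharBasic.classInner_sub_right, b.inner_indOne.1,
      (b.inner_indOne_X hζ).1, (b.inner_indOne_X hζ).2, b.X_orth hζ hζ, if_pos]
    ring
  · rw [gam, inner_dade_one b.dadeHyp.dade (gen_isClassFunction (b.gen_beta hζ)) (b.beta_A hζ),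
      beta, CharBasic.classInner_sub_left, b.inner_indOne.2]
    have h := (b.X_orth_mu hζ 1).1
    rw [b.dadeHyp.prime.mu_one.1] at h
    rw [h, sub_zero]

/-- Functions supported on `K ∖ {1}` have images vanishing on `W ∖ (W₁ ∪ W₂)`. -/
theorem dade_vanish_V {f : L → ℂ} (hf : Cfsg.IsClassFunction L f)
    (hs : ∀ g : L, g ∉ K ∨ g = 1 → f g = 0) (w : ↥(W₁ ⊔ W₂)) (h1 : (w : L) ∉ W₁)
    (h2 : (w : L) ∉ W₂) : Cfsg.dadeIsometry A L R f ((w : L) : G) = 0 := by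
  rw [H43.dade_apply b.dadeHyp.dade hf (b.dadeHyp.V_subset _ w.2 h1 h2) (x := 1) (u := 1)
    (Subgroup.one_mem _) (by group)]
  exact hs _ (Or.inl (b.dadeHyp.not_mem_of_not_mem w h2))

/-- A norm two difference of images is orthogonal to the grid. -/
theorem orth_norm_two {f : L → ℂ} (hf : Cfsg.IsGeneralizedCharacter L f)
    (hs : ∀ g : L, g ∉ K ∨ g = 1 → f g = 0) (hn : Cfsg.classInner f f = 2)
    (ω : ↥(W₁ ⊔ W₂) →* ℂˣ) :
    Cfsg.classInner (Cfsg.dadeIsometry A L R f) (PF4.eta χ ω) = 0 := by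
  have hA := b.vanish_of_supp hs
  refine PF3.orth_of_norm_two b.dadeHyp.selfNorm b.dadeHyp.odd b.family
    (gen_dade b.dadeHyp.dade hf hA) ?_ (fun w h1 h2 => ?_) _
  · rw [inner_dade b.dadeHyp.dade (gen_isClassFunction hf) hA (gen_isClassFunction hf) hA, hn]
  · obtain ⟨v, rfl⟩ := (PF4.supEquiv W₁ W₂).surjective w
    rw [PF4.supEquiv_coe] at h1 h2 ⊢
    exact b.dade_vanish_V (gen_isClassFunction hf) hs v
      (fun h => h1 ((Subgroup.mem_map_iff_mem L.subtype_injective).2 h))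
      (fun h => h2 ((Subgroup.mem_map_iff_mem L.subtype_injective).2 h))

theorem diff_orth_eta {a c : L → ℂ} (ha : a ∈ X K) (hc : c ∈ X K) (ω : ↥(W₁ ⊔ W₂) →* ℂˣ) :
    Cfsg.classInner (Cfsg.dadeIsometry A L R (a - c)) (PF4.eta χ ω) = 0 := by
  by_cases e : a = c
  · rw [e, sub_self, PF4.dade_zero, CharBasic.classInner_zero_left]
  refine b.orth_norm_two (gen_sub (b.gen_X ha) (b.gen_X hc)) ?_ ?_ ω
  · rintro g (h | rfl)
    · simp [b.X_vanish ha h, b.X_vanish hc h]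
    · simp [b.X_one ha, b.X_one hc]
  · simp only [CharBasic.classInner_sub_left, CharBasic.classInner_sub_right, b.X_orth ha ha,
      b.X_orth ha hc, b.X_orth hc ha, b.X_orth hc hc, if_pos, if_neg e, if_neg (Ne.symm e)]
    norm_num

theorem gam_sym {ζ₀ : L → ℂ} (hζ : ζ₀ ∈ X K) (ω : ↥(W₁ ⊔ W₂) →* ℂˣ) :
    Cfsg.classInner (gam A R K ζ₀) (PF4.eta χ ω⁻¹) =
      Cfsg.classInner (gam A R K ζ₀) (PF4.eta χ ω) := by
  refine inner_inv_of_orth b.dadeHyp b.family (b.gen_gam hζ) ?_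
  have e : gam A R K ζ₀ - Cfsg.conjFun (gam A R K ζ₀) =
      Cfsg.dadeIsometry A L R (Cfsg.conjFun ζ₀ - ζ₀) := by
    rw [gam, conjFun_dade, ← PF4.dade_sub]
    congr 1
    funext g
    have h : conj (Cfsg.indFun K (fun _ => (1 : ℂ)) g) = Cfsg.indFun K (fun _ => (1 : ℂ)) g := by
      have := Fintype.ofFinite K
      rw [CharInduce.conj_indFun]
      simp
    simp only [beta, Pi.sub_apply, Cfsg.conjFun, map_sub, h]
    ring
  rw [e]
  exact b.diff_orth_eta (b.X_conj hζ) hζ ω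

/-- The family of a pivot. -/
noncomputable def phi (_b : Base K W₁ W₂ A R χ) (ζ₀ : L → ℂ) (φ₀ : G → ℂ) (a : L → ℂ) : G → ℂ :=
  φ₀ + Cfsg.dadeIsometry A L R (a - ζ₀)

variable {ζ₀ : L → ℂ} {φ₀ : G → ℂ} (hp : Pivot A R K χ ζ₀ φ₀)

include hp

theorem phi_self : b.phi ζ₀ φ₀ ζ₀ = φ₀ := by
  rw [phi, sub_self, PF4.dade_zero, add_zero]

theorem phi_inner {a c : L → ℂ} (ha : a ∈ X K) (hc : c ∈ X K) :
    Cfsg.classInner (b.phi ζ₀ φ₀ a) (b.phi ζ₀ φ₀ c) = if a = c then 1 else 0 := by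
  have hsym : Cfsg.classInner φ₀ (Cfsg.dadeIsometry A L R (c - ζ₀)) =
      Cfsg.classInner c ζ₀ - 1 := by
    rw [← CharInduce.conj_classInner, hp.key c hc, b.X_orth hc hp.mem]
    split_ifs <;> simp
  simp only [phi, CharBasic.classInner_add_left, CharBasic.classInner_add_right, hp.norm, hsym,
    hp.key a ha, inner_dade b.dadeHyp.dade (gen_isClassFunction (gen_sub (b.gen_X ha) (b.gen_X hp.mem)))
      (b.diff_A ha hp.mem) (gen_isClassFunction (gen_sub (b.gen_X hc) (b.gen_X hp.mem)))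
      (b.diff_A hc hp.mem), CharBasic.classInner_sub_left, CharBasic.classInner_sub_right,
    b.X_orth ha hp.mem, b.X_orth hc hp.mem, b.X_orth hp.mem hc, b.X_orth ha hc,
    b.X_orth hp.mem hp.mem, if_pos, eq_comm (a := ζ₀) (b := c)]
  split_ifs <;> ring

theorem phi_orth_eta {a : L → ℂ} (ha : a ∈ X K) (ω : ↥(W₁ ⊔ W₂) →* ℂˣ) :
    Cfsg.classInner (b.phi ζ₀ φ₀ a) (PF4.eta χ ω) = 0 := by
  rw [phi, CharBasic.classInner_add_left, hp.orth, b.diff_orth_eta ha hp.mem, add_zero]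

/-- Bessel along the grid and the family: the sum of squares of the coefficients is at most the
norm, and equality means that `f` is the combination. -/
theorem budget {f : G → ℂ} {c : (↥(W₁ ⊔ W₂) →* ℂˣ) → ℤ}
    (hc : ∀ ω, Cfsg.classInner f (PF4.eta χ ω) = c ω) {x : (L → ℂ) → ℤ}
    (hx : ∀ a ∈ X K, Cfsg.classInner f (b.phi ζ₀ φ₀ a) = x a) {N : ℤ}
    (hN : Cfsg.classInner f f = N) :
    ∑ ω, c ω ^ 2 + ∑ a ∈ X K, x a ^ 2 ≤ N ∧
      (∑ ω, c ω ^ 2 + ∑ a ∈ X K, x a ^ 2 = N →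
        f = ∑ ω, (c ω : ℂ) • PF4.eta χ ω + ∑ a ∈ X K, (x a : ℂ) • b.phi ζ₀ φ₀ a) := by
  let s : Finset ((↥(W₁ ⊔ W₂) →* ℂˣ) ⊕ (L → ℂ)) := univ.disjSum (X K)
  let F : (↥(W₁ ⊔ W₂) →* ℂˣ) ⊕ (L → ℂ) → G → ℂ := Sum.elim (PF4.eta χ) (b.phi ζ₀ φ₀)
  let C : (↥(W₁ ⊔ W₂) →* ℂˣ) ⊕ (L → ℂ) → ℤ := Sum.elim c x
  have h := PF9.bessel_int s F (fun i hi j hj => ?_) C (β := f) (fun i hi => ?_) (N := (N : ℝ))
    (by rw [hN]; norm_cast)
  · simp only [s, sum_disjSum, F, C, Sum.elim_inl, Sum.elim_inr] at h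
    exact ⟨by exact_mod_cast h.1, fun e => h.2 (by exact_mod_cast e)⟩
  · rcases i with ω | a <;> rcases j with ω' | a' <;>
      simp only [s, inl_mem_disjSum, inr_mem_disjSum] at hi hj <;>
      simp only [F, Sum.elim_inl, Sum.elim_inr, Sum.inl.injEq, Sum.inr.injEq, reduceCtorEq, if_false]
    · exact PF4.DadeHyp.eta_orth b.family ω ω'
    · rw [← CharInduce.conj_classInner, b.phi_orth_eta hp hj, map_zero]
    · exact b.phi_orth_eta hp hi _
    · exact b.phi_inner hp hi hj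
  · rcases i with ω | a
    · exact hc ω
    · exact hx a (by simpa [s] using hi)

end Base

end Cfsg.Agent.OddOrder.PF10
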