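import Cfsg.Agent.OddOrder.PF10.Exact

/-!
# Peterfalvi section 10: exactness gives the key equation for the reducible members

For `ψ ≠ 1` trivial on `W₁` with `μ_ψ(1) = δ + n |W₁|`, `n ≤ |X|`, the image of
`μ_ψ - δ - n ζ₀` has inner product `-n` with `φ₀`.
-/

set_option autoImplicit false
set_option linter.unusedSectionVars false

open scoped ComplexConjugate

namespace Cfsg.Agent.OddOrder.PF10

open Cfsg.Agent H43 Finset
open scoped Classical

universe u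

variable {G : Type u} [Group G] [Fintype G] {L : Subgroup G} [Fintype L] {K W₁ W₂ : Subgroup L}
  {A : Set G} {R : G → Subgroup G}
  {χ : (↥(W₁.map L.subtype ⊔ W₂.map L.subtype) →* ℂˣ) → (G → ℂ)}

namespace Base

variable (b : Base K W₁ W₂ A R χ)

include b

theorem mem_colSet {ψ : ↥(W₁ ⊔ W₂) →* ℂˣ} : ψ ∈ colSet W₁ W₂ ↔ TrivL ψ ∧ ψ ≠ 1 := by
  simp [colSet]

theorem colSet_not_trivR {ψ : ↥(W₁ ⊔ W₂) →* ℂˣ} (hψ : ψ ∈ colSet W₁ W₂) : ¬ TrivR ψ :=
  fun hR => (b.mem_colSet.1 hψ).2 (linear_ext b.pair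
    (fun w hw => by rw [(b.mem_colSet.1 hψ).1 w hw, MonoidHom.one_apply])
    fun w hw => by rw [hR w hw, MonoidHom.one_apply])

theorem colSet_inv {ψ : ↥(W₁ ⊔ W₂) →* ℂˣ} (hψ : ψ ∈ colSet W₁ W₂) : ψ⁻¹ ∈ colSet W₁ W₂ :=
  b.mem_colSet.2 ⟨PF4.Hyp.trivL_inv (b.mem_colSet.1 hψ).1, fun e => b.colSet_not_trivR hψ (by
    intro w _
    have := DFunLike.congr_fun e w
    simpa using this)⟩

theorem mu_ne_one {ψ : ↥(W₁ ⊔ W₂) →* ℂˣ} (hψ : ψ ∈ colSet W₁ W₂) :
    b.dadeHyp.prime.mu ψ ≠ fun _ => 1 := fun e =>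
  (b.mem_colSet.1 hψ).2 (b.dadeHyp.prime.mu_injective (e.trans b.dadeHyp.prime.mu_one.1.symm))

/-- `γ` pairs to `-1` with `φ₀`. -/
theorem exact_phi {ζ₀ : L → ℂ} {φ₀ : G → ℂ} (hp : Pivot A R K χ ζ₀ φ₀)
    (hx : Exact A R K χ ζ₀ φ₀) : Cfsg.classInner (gam A R K ζ₀) φ₀ = -1 := by
  have h1 : ∀ ω, Cfsg.classInner (PF4.eta χ ω) φ₀ = 0 := fun ω => by
    rw [← CharInduce.conj_classInner, hp.orth, map_zero]
  rw [Exact] at hx
  rw [hx, CharBasic.classInner_add_left, CharBasic.classInner_sub_left, rowSum,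
    CharBasic.classInner_sum_left, sum_eq_zero fun ω _ => h1 ω, hp.norm,
    ← b.dadeHyp.eta_one b.family, h1]
  ring

/-- `α = μ_ψ - δ - n ζ₀`. -/
noncomputable def alpha (ζ₀ : L → ℂ) (ψ : ↥(W₁ ⊔ W₂) →* ℂˣ) (n : ℤ) : L → ℂ :=
  b.dadeHyp.prime.mu ψ - b.dadeHyp.prime.delta ψ • (fun _ => (1 : ℂ)) - n • ζ₀

theorem gen_alpha {ζ₀ : L → ℂ} (hζ : ζ₀ ∈ X K) (ψ : ↥(W₁ ⊔ W₂) →* ℂˣ) (n : ℤ) :
    Cfsg.IsGeneralizedCharacter L (b.alpha ζ₀ ψ n) := by
  refine gen_sub (gen_sub (gen_of_irr (b.dadeHyp.prime.mu_irr ψ)) ?_) (gen_zsmul (b.gen_X hζ) n)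
  rcases b.dadeHyp.prime.delta_eq ψ with e | e <;> rw [e]
  · rw [one_smul]; exact gen_of_irr CharBasic.isIrrCharacter_one
  · rw [neg_smul, one_smul]; exact gen_neg (gen_of_irr CharBasic.isIrrCharacter_one)

theorem alpha_A {ζ₀ : L → ℂ} (hζ : ζ₀ ∈ X K) {ψ : ↥(W₁ ⊔ W₂) →* ℂˣ} (hL : TrivL ψ) {n : ℤ}
    (hn : b.dadeHyp.prime.mu ψ 1 = b.dadeHyp.prime.delta ψ + n * (Nat.card W₁ : ℂ))
    (g : L) (hg : (g : G) ∉ A) : b.alpha ζ₀ ψ n g = 0 := by
  by_cases hg1 : g = 1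
  · subst hg1
    simp [alpha, b.X_one hζ, hn]
  have hgK : g ∉ K := fun h => hg (b.mem_A_of_mem_K h hg1)
  obtain ⟨y, -, w, hw2, hyw⟩ := b.dadeHyp.prime.exists_conj_mem hgK
  have hw1 : (w : L) ∈ W₁ := by
    by_contra hw1
    apply hg
    have := b.dadeHyp.dade.conj_mem (y⁻¹ : L) (y⁻¹ : L).2 _ (b.dadeHyp.V_subset _ w.2 hw1 hw2)
    rw [← hyw] at this
    simpa [mul_assoc] using this
  have hval : b.dadeHyp.prime.mu ψ g = b.dadeHyp.prime.delta ψ := by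
    rw [← CharBasic.IsIrr.isClassFunction (b.dadeHyp.prime.mu_irr ψ) g y, hyw,
      b.dadeHyp.prime.mu_apply ψ w hw2, hL w hw1]
    simp
  simp [alpha, b.X_vanish hζ hgK, hval]

/-- Exactness gives the coefficient of `τ α` on `φ₀`. -/
theorem alpha_phi {ζ₀ : L → ℂ} {φ₀ : G → ℂ} (hp : Pivot A R K χ ζ₀ φ₀)
    (hx : Exact A R K χ ζ₀ φ₀) {ψ : ↥(W₁ ⊔ W₂) →* ℂˣ} (hψ : ψ ∈ colSet W₁ W₂) {n : ℤ}
    (hn : b.dadeHyp.prime.mu ψ 1 = b.dadeHyp.prime.delta ψ + n * (Nat.card W₁ : ℂ))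
    (h0 : 0 ≤ n) (hnF : n ≤ (X K).card) :
    Cfsg.classInner (Cfsg.dadeIsometry A L R (b.alpha ζ₀ ψ n)) φ₀ = -(n : ℂ) := by
  have hL := (b.mem_colSet.1 hψ).1
  have hA := b.alpha_A hp.mem hL hn
  have hgen := b.gen_alpha hp.mem ψ n
  have hGgen := gen_dade b.dadeHyp.dade hgen hA
  set d := b.dadeHyp.prime.delta ψ with hd
  obtain ⟨D, hD, hD1⟩ : ∃ D : ℤ, d = D ∧ D * D = 1 := by
    rcases b.dadeHyp.prime.delta_eq ψ with e | e
    · exact ⟨1, by rw [hd, e]; simp, by norm_num⟩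
    · exact ⟨-1, by rw [hd, e]; simp, by norm_num⟩
  have hone : Cfsg.IsIrrCharacter L (fun _ => (1 : ℂ)) := CharBasic.isIrrCharacter_one
  have hm1 : Cfsg.classInner (b.dadeHyp.prime.mu ψ) (fun _ => 1) = 0 ∧
      Cfsg.classInner (fun _ => (1 : ℂ)) (b.dadeHyp.prime.mu ψ) = 0 :=
    ⟨CharBasic.classInner_irr_of_ne (b.dadeHyp.prime.mu_irr ψ) hone (b.mu_ne_one hψ),
      CharBasic.classInner_irr_of_ne hone (b.dadeHyp.prime.mu_irr ψ) (b.mu_ne_one hψ).symm⟩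
  have hz1 : ∀ a ∈ X K, Cfsg.classInner a (fun _ => 1) = 0 ∧
      Cfsg.classInner (fun _ => (1 : ℂ)) a = 0 := fun a ha => by
    have h := b.X_orth_mu ha 1
    rwa [b.dadeHyp.prime.mu_one.1] at h
  have hleft : ∀ f : L → ℂ, Cfsg.classInner (b.alpha ζ₀ ψ n) f =
      Cfsg.classInner (b.dadeHyp.prime.mu ψ) f - d * Cfsg.classInner (fun _ => 1) f -
        (n : ℂ) * Cfsg.classInner ζ₀ f := fun f => by
    rw [alpha, ← Int.cast_smul_eq_zsmul ℂ]
    simp only [CharBasic.classInner_sub_left, CharBasic.classInner_smul_left, ← hd]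
  have hright : ∀ f : L → ℂ, Cfsg.classInner f (b.alpha ζ₀ ψ n) =
      Cfsg.classInner f (b.dadeHyp.prime.mu ψ) - d * Cfsg.classInner f (fun _ => 1) -
        (n : ℂ) * Cfsg.classInner f ζ₀ := fun f => by
    rw [alpha, ← Int.cast_smul_eq_zsmul ℂ]
    simp only [CharBasic.classInner_sub_right, CharBasic.classInner_smul_right, ← hd,
      map_intCast, hD]
  have haone : Cfsg.classInner (b.alpha ζ₀ ψ n) (fun _ => 1) = -d := by
    rw [hleft, hm1.1, CharBasic.classInner_irr_self hone, (hz1 _ hp.mem).1]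
    ring
  have hbeta : Cfsg.classInner (b.alpha ζ₀ ψ n) (beta K ζ₀) = -d + n := by
    have hind : Cfsg.classInner (b.alpha ζ₀ ψ n) (Cfsg.indFun K fun _ => (1 : ℂ)) = -d := by
      rw [hleft, ← b.red_one_eq, (b.X_orth_red hp.mem 1).1, ← CharInduce.conj_classInner,
        b.dadeHyp.prime.classInner_red_mu, if_neg fun h => b.colSet_not_trivR hψ fun w hw => by
          rw [h w hw, MonoidHom.one_apply], ← CharInduce.conj_classInner (φ := b.dadeHyp.prime.red 1),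
        b.red_one_eq, b.inner_indOne.2]
      simp
    rw [beta, CharBasic.classInner_sub_right, hind, hleft, (b.X_orth_mu hp.mem ψ).2,
      (hz1 _ hp.mem).2, b.X_orth hp.mem hp.mem, if_pos rfl]
    ring
  set T := Cfsg.dadeIsometry A L R (b.alpha ζ₀ ψ n) with hT
  choose c hc using fun ω => gen_inner_int hGgen (PF4.DadeHyp.eta_signed b.family ω).gen
  obtain ⟨k, hk⟩ := gen_inner_int hGgen hp.gen
  have hc1 : c 1 = -D := by
    have h := hc 1
    rw [b.dadeHyp.eta_one b.family, hT,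
      inner_dade_one b.dadeHyp.dade (gen_isClassFunction hgen) hA, haone, hD] at h
    exact_mod_cast h.symm
  -- the coefficient on `φ₀` against the row
  have hsum : k + n = ∑ φ ∈ rowSet W₁ W₂, c φ := by
    have h : Cfsg.classInner T (gam A R K ζ₀) = -d + n := by
      rw [hT, gam, inner_dade b.dadeHyp.dade (gen_isClassFunction hgen) hA
        (gen_isClassFunction (b.gen_beta hp.mem)) (b.beta_A hp.mem), hbeta]
    have hx' : gam A R K ζ₀ = (fun _ => (1 : ℂ)) - φ₀ + rowSum W₁ W₂ χ := hx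
    rw [hx', CharBasic.classInner_add_right, CharBasic.classInner_sub_right, rowSum,
      CharBasic.classInner_sum_right, hk, ← b.dadeHyp.eta_one b.family, hc, hc1, hD,
      sum_congr rfl fun φ _ => hc φ] at h
    apply Int.cast_injective (α := ℂ)
    push_cast at h ⊢
    linear_combination -h
  have hsym : ∀ φ ∈ rowSet W₁ W₂, c φ⁻¹ = c φ := by
    intro φ hφ
    apply Int.cast_injective (α := ℂ)
    rw [← hc, ← hc]
    refine inner_inv_of_orth b.dadeHyp b.family hGgen ?_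
    have hinv := b.dadeHyp.prime.mu_inv ψ
    have e : b.alpha ζ₀ ψ n - Cfsg.conjFun (b.alpha ζ₀ ψ n) =
        (b.dadeHyp.prime.mu ψ - b.dadeHyp.prime.mu ψ⁻¹) - n • (ζ₀ - Cfsg.conjFun ζ₀) := by
      funext g
      simp only [alpha, ← Int.cast_smul_eq_zsmul ℂ, Pi.sub_apply, Pi.smul_apply, Cfsg.conjFun,
        map_sub, smul_eq_mul, map_mul, hinv.1, map_one, ← hd, hD, map_intCast]
      ring
    rw [hT, conjFun_dade, ← PF4.dade_sub, e, PF4.dade_sub, PF4.dade_zsmul,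
      b.dadeHyp.dade_mu_sub b.family b.supp
        (by by_contra hc; push Not at hc; exact b.colSet_not_trivR hψ hc)
        (by by_contra hc; push Not at hc; exact b.colSet_not_trivR (b.colSet_inv hψ) hc)
        (fun w hw => by rw [hL w hw, MonoidHom.inv_apply, hL w hw, inv_one])
        (by
          rw [hinv.1]
          show _ = conj (b.dadeHyp.prime.mu ψ 1)
          rw [hn, map_add, map_mul, map_intCast, Complex.conj_natCast, hD,
            map_intCast]),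
      CharBasic.classInner_sub_left, CharBasic.classInner_smul_left,
      CharBasic.classInner_sub_left, PF4.DadeHyp.eta_orth b.family, PF4.DadeHyp.eta_orth b.family,
      if_neg, if_neg, ← Int.cast_smul_eq_zsmul ℂ, CharBasic.classInner_smul_left,
      b.diff_orth_eta hp.mem (b.X_conj hp.mem)]
    · ring
    · exact fun e => b.colSet_not_trivR (b.colSet_inv hψ) (e ▸ (b.mem_rowSet.1 hφ).1)
    · exact fun e => b.colSet_not_trivR hψ (e ▸ (b.mem_rowSet.1 hφ).1)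
  -- the budget
  set x : (L → ℂ) → ℤ := fun a => if a = ζ₀ then k else k + n with hxdef
  have hxe : ∀ a ∈ X K, Cfsg.classInner T (b.phi ζ₀ φ₀ a) = x a := fun a ha => by
    have hag : Cfsg.IsGeneralizedCharacter L (a - ζ₀) := gen_sub (b.gen_X ha) (b.gen_X hp.mem)
    rw [phi, CharBasic.classInner_add_right, hk, hT, inner_dade b.dadeHyp.dade
      (gen_isClassFunction hgen) hA (gen_isClassFunction hag) (b.diff_A ha hp.mem), hleft,
      CharBasic.classInner_sub_right, CharBasic.classInner_sub_right, CharBasic.classInner_sub_right,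
      (b.X_orth_mu ha ψ).2, (b.X_orth_mu hp.mem ψ).2, (hz1 _ ha).2, (hz1 _ hp.mem).2,
      b.X_orth hp.mem ha, b.X_orth hp.mem hp.mem, if_pos rfl, hxdef]
    by_cases h : a = ζ₀ <;> simp [h, eq_comm (a := ζ₀)]
  have hN : Cfsg.classInner T T = ((2 + n ^ 2 : ℤ) : ℂ) := by
    rw [hT, inner_dade b.dadeHyp.dade (gen_isClassFunction hgen) hA (gen_isClassFunction hgen) hA,
      hleft, hright, hright, hright, CharBasic.classInner_irr_self (b.dadeHyp.prime.mu_irr ψ),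
      hm1.1, hm1.2, CharBasic.classInner_irr_self hone, (b.X_orth_mu hp.mem ψ).1,
      (b.X_orth_mu hp.mem ψ).2, (hz1 _ hp.mem).1, (hz1 _ hp.mem).2, b.X_orth hp.mem hp.mem,
      if_pos rfl, hD]
    push_cast
    have : (D : ℂ) * D = 1 := by exact_mod_cast hD1
    linear_combination this
  obtain ⟨hle, -⟩ := b.budget hp hc hxe hN
  have hxsum : ∑ a ∈ X K, x a ^ 2 = k ^ 2 + ((X K).card - 1 : ℤ) * (k + n) ^ 2 := by
    rw [← add_sum_erase _ _ hp.mem, sum_congr rfl (g := fun _ => (k + n) ^ 2) fun a ha => by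
      rw [hxdef]; simp [(mem_erase.1 ha).1], sum_const, card_erase_of_mem hp.mem, nsmul_eq_mul,
      Nat.cast_sub (card_pos.2 b.X_nonempty), hxdef]
    simp
  have hlow : 1 + ∑ φ ∈ rowSet W₁ W₂, c φ ^ 2 ≤ ∑ ω, c ω ^ 2 := by
    rw [b.sum_univ_eq fun ω => c ω ^ 2, hc1, neg_sq, sq D, hD1]
    linarith [sum_nonneg (s := colSet W₁ W₂) fun ψ _ => sq_nonneg (c ψ),
      sum_nonneg (s := colSet W₁ W₂) fun ψ _ =>
        sum_nonneg (s := rowSet W₁ W₂) fun φ _ => sq_nonneg (c (φ * ψ))]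
  obtain ⟨j, hj⟩ := b.even_rowSet_sum c hsym
  have hpos : 0 ≤ ((X K).card : ℤ) * (k + n) ^ 2 - 2 * n * (k + n) := by
    rw [hsum, hj]
    rcases lt_trichotomy j 0 with h | h | h
    · nlinarith [mul_nonneg h0 (show (0 : ℤ) ≤ -j by linarith),
        mul_nonneg (show (0 : ℤ) ≤ (X K).card by positivity) (sq_nonneg j)]
    · simp [h]
    · nlinarith [mul_nonneg (sub_nonneg.2 hnF) (show (0 : ℤ) ≤ j by linarith),
        mul_nonneg (mul_nonneg (show (0 : ℤ) ≤ (X K).card by positivity)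
          (show (0 : ℤ) ≤ j by linarith)) (show (0 : ℤ) ≤ j - 1 by linarith)]
  have hzero := eq_zero_of_involution (rowSet W₁ W₂) (·⁻¹) (fun _ h => b.rowSet_inv h)
    (fun _ h => b.rowSet_inv_ne h) c hsym (by rw [hxsum] at hle; nlinarith)
  rw [sum_eq_zero hzero] at hsum
  rw [hk]
  exact_mod_cast (by linarith : k = -n)

/-- Exactness gives the key equation for the reducible member of a column. -/
theorem key_red {ζ₀ : L → ℂ} {φ₀ : G → ℂ} (hp : Pivot A R K χ ζ₀ φ₀)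
    (hx : Exact A R K χ ζ₀ φ₀) {ψ : ↥(W₁ ⊔ W₂) →* ℂˣ} (hψ : ψ ∈ colSet W₁ W₂)
    (hdeg : ∀ n : ℤ, b.dadeHyp.prime.mu ψ 1 =
      b.dadeHyp.prime.delta ψ + n * (Nat.card W₁ : ℂ) → n ≤ (X K).card) :
    Key A R K ζ₀ φ₀ (b.dadeHyp.prime.red ψ) := by
  intro m hm
  have hL := (b.mem_colSet.1 hψ).1
  obtain ⟨n, hn'⟩ := b.dadeHyp.prime.mu_one_mod ψ
  have hn : b.dadeHyp.prime.mu ψ 1 = b.dadeHyp.prime.delta ψ + n * (Nat.card W₁ : ℂ) := by
    linear_combination hn'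
  have hq : (Nat.card W₁ : ℂ) ≠ 0 := by exact_mod_cast Nat.card_pos.ne'
  have hmu : b.dadeHyp.prime.mu ψ 1 = (m : ℂ) := by
    rw [b.dadeHyp.prime.red_one, b.index_eq] at hm
    push_cast at hm
    exact mul_left_cancel₀ hq hm
  have h0 : 0 ≤ n := by
    by_contra hneg
    have h3 : (3 : ℤ) ≤ Nat.card W₁ := by exact_mod_cast b.three_le
    rw [hmu] at hn
    rcases b.dadeHyp.prime.delta_eq ψ with e | e <;> rw [e] at hn
    · have : (m : ℤ) = 1 + n * (Nat.card W₁ : ℤ) := by exact_mod_cast hn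
      nlinarith [Int.natCast_nonneg m, mul_nonneg (show (0 : ℤ) ≤ -n - 1 by omega)
        (show (0 : ℤ) ≤ Nat.card W₁ by linarith)]
    · have : (m : ℤ) = -1 + n * (Nat.card W₁ : ℤ) := by exact_mod_cast hn
      nlinarith [Int.natCast_nonneg m, mul_nonneg (show (0 : ℤ) ≤ -n - 1 by omega)
        (show (0 : ℤ) ≤ Nat.card W₁ by linarith)]
  have hal := b.alpha_phi hp hx hψ hn h0 (hdeg n hn)
  set d := b.dadeHyp.prime.delta ψ with hd
  set s := univ.filter fun φ : ↥(W₁ ⊔ W₂) →* ℂˣ => TrivR φ with hs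
  have hcard : (s.card : ℂ) = Nat.card W₁ := by
    rw [hs, ← (PF3.card_trivR_trivL b.pair).1, Nat.card_eq_fintype_card, Fintype.card_subtype]
  have hone : ∀ φ : ↥(W₁ ⊔ W₂) →* ℂˣ, (1 : ↥(W₁ ⊔ W₂) →* ℂˣ) * φ = φ := fun φ => by ext; simp
  have hm' : (m : ℂ) = d + n * (Nat.card W₁ : ℂ) := hmu ▸ hn
  have hdd : d * d = 1 := b.dadeHyp.prime.delta_mul_self ψ
  have e : b.dadeHyp.prime.red ψ - ((m : ℕ) : ℤ) • ζ₀ =
      (Nat.card W₁ : ℂ) • b.alpha ζ₀ ψ n + d • ∑ φ ∈ s,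
        (b.dadeHyp.prime.delta (φ * ψ) • (b.dadeHyp.prime.mu (φ * ψ) -
            b.dadeHyp.prime.mu (1 * ψ)) - (b.dadeHyp.prime.mu φ - b.dadeHyp.prime.mu 1)) +
        d • beta K ζ₀ := by
    funext g
    have h1 : b.dadeHyp.prime.red ψ g = ∑ φ ∈ s, b.dadeHyp.prime.mu (φ * ψ) g := by
      rw [b.dadeHyp.prime.red_eq_sum, Finset.sum_apply]
    have h2 : Cfsg.indFun K (fun _ => (1 : ℂ)) g = ∑ φ ∈ s, b.dadeHyp.prime.mu φ g := by
      rw [← b.red_one_eq, b.dadeHyp.prime.red_eq_sum, Finset.sum_apply]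
      exact sum_congr rfl fun φ _ => by rw [show φ * 1 = φ from by ext; simp]
    simp only [Pi.sub_apply, Pi.add_apply, Pi.smul_apply, smul_eq_mul, Finset.sum_apply, alpha,
      beta, h1, h2, ← Int.cast_smul_eq_zsmul ℂ, hone, b.dadeHyp.prime.mu_one.1, ← hd,
      Int.cast_natCast, hm']
    rw [sum_congr rfl (f := fun φ => b.dadeHyp.prime.delta (φ * ψ) *
        (b.dadeHyp.prime.mu (φ * ψ) g - b.dadeHyp.prime.mu ψ g) -
        (b.dadeHyp.prime.mu φ g - 1)) fun φ hφ => by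
      rw [(b.dadeHyp.prime.mu_mul (mem_filter.1 hφ).2 ψ).2, ← hd]]
    simp only [sum_sub_distrib, ← mul_sum, sum_const, nsmul_eq_mul, mul_one, hcard]
    linear_combination (-(∑ φ ∈ s, b.dadeHyp.prime.mu (φ * ψ) g) +
      (Nat.card W₁ : ℂ) * b.dadeHyp.prime.mu ψ g) * hdd
  rw [e, PF4.dade_add, PF4.dade_add, PF4.dade_smul, PF4.dade_smul, PF4.dade_smul, PF4.dade_sum,
    sum_congr rfl fun φ hφ => b.dadeHyp.dade_sub2 b.family (mem_filter.1 hφ).2 trivR_one hL]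
  simp only [CharBasic.classInner_add_left, CharBasic.classInner_smul_left,
    CharBasic.classInner_sum_left, CharBasic.classInner_sub_left, hal]
  have h1 : ∀ ω, Cfsg.classInner (PF4.eta χ ω) φ₀ = 0 := fun ω => by
    rw [← CharInduce.conj_classInner, hp.orth, map_zero]
  simp only [h1, sub_zero, sum_const_zero, mul_zero, add_zero]
  rw [show Cfsg.classInner (Cfsg.dadeIsometry A L R (beta K ζ₀)) φ₀ = -1 from b.exact_phi hp hx,
    (b.X_orth_red hp.mem ψ).2, hm']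
  ring

end Base

end Cfsg.Agent.OddOrder.PF10
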